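import Groth.Agent.QCT3.Coreflect
import Groth.Agent.FModLib.IndRpushAdj

/-!
# The derived category of quasi-coherent torsion modules and the derived direct image
-/

set_option autoImplicit false
set_option backward.isDefEq.respectTransparency false
set_option backward.defeqAttrib.useBackward true
set_option linter.style.haveILetI false
set_option linter.unusedSectionVars false
set_option maxHeartbeats 1000000

universe u

open CategoryTheory CategoryTheory.Limits AlgebraicGeometry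

attribute [local instance] HasDerivedCategory.standard

noncomputable section

namespace Groth.Agent.QCT3

variable {𝔛 𝔜 : FSch.Sys.{u}} (f : 𝔛 ⟶ 𝔜) {hX : 𝔛.IsFormal} (hY : 𝔜.IsFormal) (hX' : 𝔛.IsLocNoethFormal)
  [(FTors.IsQCT 𝔛 hX).ContainsZero] [(FTors.IsQCT 𝔛 hX).IsClosedUnderKernels]
  [(FTors.IsQCT 𝔛 hX).IsClosedUnderCokernels] [(FTors.IsQCT 𝔛 hX).IsClosedUnderFiniteProducts]
  [PreservesFiniteLimits (FTors.IsQCT 𝔛 hX).ι] [PreservesFiniteColimits (FTors.IsQCT 𝔛 hX).ι]

include hX' in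
theorem isGrothendieckAbelian_qct : IsGrothendieckAbelian.{u} (FTors.IsQCT 𝔛 hX).FullSubcategory := by
  haveI : ∀ (J : Type u) [SmallCategory J], (FTors.IsQCT 𝔛 hX).IsClosedUnderColimitsOfShape J :=
    fun J _ => closed_colimits hX' J
  exact FModLib.isGrothendieckAbelian_fullSubcategory _ _ (isSeparating_cokFam hX')

include hX' in
theorem preservesCoproducts_qct_ι (J : Type u) :
    PreservesColimitsOfShape (Discrete J) (FTors.IsQCT 𝔛 hX).ι.mapDerivedCategory := by
  haveI := isGrothendieckAbelian_qct (hX := hX) hX'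
  haveI := closed_colimits (h := hX) hX' (Discrete J)
  haveI : HasColimitsOfShape (Discrete J) (FSch.ModF 𝔛 hX) := inferInstance
  haveI : CreatesColimitsOfShape (Discrete J) (FTors.IsQCT 𝔛 hX).ι := inferInstance
  haveI : PreservesColimitsOfShape (Discrete J) (FTors.IsQCT 𝔛 hX).ι := inferInstance
  exact FModLib.preservesCoproducts_mapDerivedCategory _ J

variable [CompactSpace (𝔛.X 0)] [CompactSpace (𝔜.X 0)] [SiteCmp.HasRpushD (FSch.homMor f hX hY)]

include hX' in
theorem isLeftAdjoint_qct_mapDerived_rpushD :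
    ((FTors.IsQCT 𝔛 hX).ι.mapDerivedCategory ⋙ SiteCmp.RpushD (FSch.homMor f hX hY)).IsLeftAdjoint := by
  haveI := isGrothendieckAbelian_qct (hX := hX) hX'
  haveI := closed_isQCT (h := hX)
  haveI : ∀ J : Type u, PreservesColimitsOfShape (Discrete J)
      ((FTors.IsQCT 𝔛 hX).ι.mapDerivedCategory ⋙ SiteCmp.RpushD (FSch.homMor f hX hY)) := fun J => by
    haveI := preservesCoproducts_qct_ι (hX := hX) hX' J
    let F := (FTors.IsQCT 𝔛 hX).ι.mapDerivedCategory
    refine ⟨fun {K} => ⟨fun {c} hc => ?_⟩⟩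
    haveI : PreservesColimit (K ⋙ F) (SiteCmp.RpushD (FSch.homMor f hX hY)) := by
      haveI := FModLib.preservesColimit_rpushD f hX hY hX' (fun t => F.obj (K.obj ⟨t⟩))
        fun t i => indCoh_of_isQCT hX' (FModLib.prop_homology_mapDerivedCategory (FTors.IsQCT 𝔛 hX).ι
          (FTors.IsQCT 𝔛 hX) (fun M => M.property) (K.obj ⟨t⟩) i)
      exact preservesColimit_of_iso_diagram _
        (Discrete.natIso fun _ => Iso.refl _ : Discrete.functor (fun t => F.obj (K.obj ⟨t⟩)) ≅ K ⋙ F)
    exact ⟨isColimitOfPreserves (SiteCmp.RpushD (FSch.homMor f hX hY)) (isColimitOfPreserves F hc)⟩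
  exact FModLib.isLeftAdjoint_comp_standard (FTors.IsQCT 𝔛 hX).ι (SiteCmp.RpushD (FSch.homMor f hX hY))
    (SiteDer16.exists_commShift_rpushD (FSch.homMor f hX hY))

/-- Restriction to the essential image of a fully faithful functor. -/
theorem isLeftAdjoint_ι_comp {A C D : Type*} [Category A] [Category C] [Category D] (F : A ⥤ C) [F.Full]
    [F.Faithful] (P : ObjectProperty C) (hP : ∀ G, F.essImage G ↔ P G) (R : C ⥤ D) [(F ⋙ R).IsLeftAdjoint] :
    (P.ι ⋙ R).IsLeftAdjoint := by
  let L : A ⥤ P.FullSubcategory := P.lift F fun a => (hP _).1 ⟨a, ⟨Iso.refl _⟩⟩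
  haveI : L.Full := inferInstance
  haveI : L.Faithful := inferInstance
  haveI : L.EssSurj := ⟨fun G => by
    obtain ⟨a, ⟨e⟩⟩ := (hP G.obj).2 G.property
    exact ⟨a, ⟨P.isoMk e⟩⟩⟩
  haveI : L.IsEquivalence := {}
  exact Functor.isLeftAdjoint_of_iso (show L.inv ⋙ (F ⋙ R) ≅ P.ι ⋙ R from
    Functor.isoWhiskerLeft L.inv (Iso.refl (L ⋙ P.ι ⋙ R) : F ⋙ R ≅ L ⋙ P.ι ⋙ R) ≪≫
      (Functor.associator _ _ _).symm ≪≫ Functor.isoWhiskerRight L.asEquivalence.counitIso (P.ι ⋙ R) ≪≫
        Functor.leftUnitor _)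

end Groth.Agent.QCT3
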