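import Groth.Agent.QCT3.Main

/-!
# Colimits of quasi-coherent torsion modules
-/

set_option autoImplicit false
set_option backward.isDefEq.respectTransparency false
set_option linter.style.haveILetI false
set_option linter.unusedSectionVars false
set_option maxHeartbeats 2000000

universe u

open CategoryTheory CategoryTheory.Limits AlgebraicGeometry Opposite TopologicalSpace
open Groth.Agent.FBlowLib Groth.Agent.DerCompLib Groth.Agent.Coherent Groth.Agent.FModLib

noncomputable section

namespace Groth.Agent.QCT3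

variable {𝔛 : FSch.Sys.{u}} {h : 𝔛.IsFormal} (hX : 𝔛.IsLocNoethFormal) {W : (𝔛.X 0).Opens}

theorem inv_hom' (V : ((sub h W).X 0).Opens) (c : FBlowLib.Sec 𝔛 h ((opn h W).ι ''ᵁ V)) :
    ((ringIso h W).inv.hom.app (op V)).hom (((ringIso h W).hom.hom.app (op V)).hom c) = c :=
  ConcreteCategory.congr_hom (congr_app (congrArg (fun φ => φ.hom) (ringIso h W).hom_inv_id) (op V)) c

theorem hom_inv' (V : ((sub h W).X 0).Opens) (c : FBlowLib.Sec (sub h W) (hsub h W) V) :
    ((ringIso h W).hom.hom.app (op V)).hom (((ringIso h W).inv.hom.app (op V)).hom c) = c :=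
  ConcreteCategory.congr_hom (congr_app (congrArg (fun φ => φ.hom) (ringIso h W).inv_hom_id) (op V) :) c

theorem smul_as_sub (M : FSch.ModF 𝔛 h) (V : ((sub h W).X 0).Opens) (r : FBlowLib.Sec 𝔛 h ((opn h W).ι ''ᵁ V))
    (x : DerCompLib.Sec M ((opn h W).ι ''ᵁ V)) :
    (show DerCompLib.Sec ((toSub h W).obj M) V from r • x) =
      (show FBlowLib.Sec (sub h W) (hsub h W) V from ((ringIso h W).hom.hom.app (op V)).hom r) •
        (show DerCompLib.Sec ((toSub h W).obj M) V from x) := by
  refine Eq.symm ((sub_smul' M V _ (show DerCompLib.Sec ((toSub h W).obj M) V from x)).trans ?_)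
  rw [inv_hom']

theorem hom_res {U V : ((sub h W).X 0).Opens} (i : V ≤ U) (c : FBlowLib.Sec 𝔛 h ((opn h W).ι ''ᵁ U)) :
    ((ringIso h W).hom.hom.app (op V)).hom (res 𝔛 h ((opn h W).ι.image_mono i) c) =
      res (sub h W) (hsub h W) i (((ringIso h W).hom.hom.app (op U)).hom c) :=
  ConcreteCategory.congr_hom ((ringIso h W).hom.hom.naturality (homOfLE i).op) c

theorem span_sub_le (M : FSch.ModF 𝔛 h) (V : ((sub h W).X 0).Opens) {S : Set (DerCompLib.Sec M ((opn h W).ι ''ᵁ V))}
    {x : DerCompLib.Sec M ((opn h W).ι ''ᵁ V)} (hx : x ∈ Submodule.span (FBlowLib.Sec 𝔛 h ((opn h W).ι ''ᵁ V)) S) :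
    (show DerCompLib.Sec ((toSub h W).obj M) V from x) ∈ Submodule.span (FBlowLib.Sec (sub h W) (hsub h W) V)
      (show Set (DerCompLib.Sec ((toSub h W).obj M) V) from S) := by
  refine Submodule.span_induction (p := fun (y : DerCompLib.Sec M ((opn h W).ι ''ᵁ V)) _ =>
    (show DerCompLib.Sec ((toSub h W).obj M) V from y) ∈ Submodule.span (FBlowLib.Sec (sub h W) (hsub h W) V)
      (show Set (DerCompLib.Sec ((toSub h W).obj M) V) from S)) (fun y hy => Submodule.subset_span hy)
    (zero_mem _) (fun _ _ _ _ ha hb => add_mem ha hb) (fun r y _ hy => ?_) hx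
  rw [smul_as_sub]
  exact Submodule.smul_mem _ _ hy

include hX in
/-- Coherence restricts to all affine opens. -/
theorem isPC_toSub {M : FSch.ModF 𝔛 h} (hM : IsPC (AFF 𝔛) M) : IsPC (AFF (sub h W)) ((toSub h W).obj M) := by
  have haff : ∀ {V : ((sub h W).X 0).Opens}, AFF (sub h W) V → AFF 𝔛 ((opn h W).ι ''ᵁ V) := fun hV =>
    IsAffineOpen.image_of_isOpenImmersion hV _
  refine ⟨fun V hV => ?_, fun U V i hU hV => top_unique fun x _ => ?_, fun U V i hU hV q s a ha => ?_⟩
  · obtain ⟨S, hS⟩ := (hM.finite _ (haff hV)).fg_top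
    refine ⟨⟨S, top_unique fun x _ => ?_⟩⟩
    exact span_sub_le M V (x := x) (hS ▸ Submodule.mem_top)
  · have h1 := span_sub_le M V (x := x)
      ((hM.span _ _ ((opn h W).ι.image_mono i) (haff hU) (haff hV)) ▸ Submodule.mem_top)
    exact h1
  · let φ := fun j => ((ringIso h W).inv.hom.app (op V)).hom (a j)
    have h0 : ∑ j, φ j • mRes M ((opn h W).ι.image_mono i) (s j) = 0 := by
      refine Eq.trans (Finset.sum_congr rfl fun j _ => ?_) ha
      exact (sub_smul' M V (a j) _).symm
    have h1 := hM.rels _ _ ((opn h W).ι.image_mono i) (haff hU) (haff hV) q s φ h0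
    let ψ : (Fin q → FBlowLib.Sec 𝔛 h ((opn h W).ι ''ᵁ V)) → Fin q → FBlowLib.Sec (sub h W) (hsub h W) V :=
      fun c j => ((ringIso h W).hom.hom.app (op V)).hom (c j)
    have h2 : ψ φ = a := funext fun j => hom_inv' V (a j)
    rw [← h2]
    refine Submodule.span_induction (p := fun c _ => ψ c ∈ _) ?_ ?_ ?_ ?_ h1
    · rintro _ ⟨y, hy, rfl⟩
      refine Submodule.subset_span ⟨fun j => ((ringIso h W).hom.hom.app (op U)).hom (y j), ?_, ?_⟩
      · rw [SetLike.mem_coe, mem_relsOf] at hy ⊢
        refine Eq.trans (Finset.sum_congr rfl fun j _ => ?_) hy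
        exact (smul_as_sub M U (y j) (s j)).symm
      · exact funext fun j => (hom_res i (y j)).symm
    · rw [show ψ 0 = 0 from funext fun j => map_zero _]
      exact zero_mem _
    · intro c d _ _ hc hd
      rw [show ψ (c + d) = ψ c + ψ d from funext fun j => map_add _ _ _]
      exact add_mem hc hd
    · intro r c _ hc
      rw [show ψ (r • c) = (show FBlowLib.Sec (sub h W) (hsub h W) V from ((ringIso h W).hom.hom.app (op V)).hom r) • ψ c
        from funext fun j => map_mul _ _ _]
      exact Submodule.smul_mem _ _ hc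

include hX in
/-- Filtered colimits of coherent modules are quasi-coherent. -/
theorem isQuasicoherent_of_indCoh {M : FSch.ModF 𝔛 h} (hM : indCoh h M) : SheafOfModules.IsQuasicoherent.{u} M := by
  refine isQuasicoherent_of_indCoh_toSub hX fun x => ?_
  obtain ⟨W, hW, hxW, -⟩ := Opens.isBasis_iff_nbhd.mp (𝔛.X 0).isBasis_affineOpens
    (show x ∈ (⊤ : (𝔛.X 0).Opens) from trivial)
  refine ⟨W, hW, hxW, ?_⟩
  obtain ⟨Λ, _, _, pres, hc⟩ := hM
  haveI : PreservesColimitsOfShape Λ (ModSite.restr (𝔛.Osh h) (opn h W)) :=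
    DerCompLib.preservesColimitsOfShape_restr (𝔛.Osh h) (opn h W) Λ
  haveI : PreservesColimitsOfShape Λ (subEquiv h W).functor := inferInstance
  haveI : PreservesColimitsOfShape Λ (toSub h W) :=
    @comp_preservesColimitsOfShape _ _ _ _ _ _ _ _ (ModSite.restr (𝔛.Osh h) (opn h W)) (subEquiv h W).functor
      inferInstance inferInstance
  exact ⟨Λ, inferInstance, inferInstance, pres.map (toSub h W),
    fun l => (goodRing (hsub h W) (locNoeth_sub h hX W)).isFinitePresentation
      (isPC_toSub hX (isPC_of_isCohF h hX _ (hc l)))⟩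

theorem isIso_gammaι {M : FSch.ModF 𝔛 h} (hM : FTors.IsTorsF 𝔛 h M) : IsIso ((FTors.gammaTι 𝔛 h).app M) :=
  isIso_of_forall (P := AFF 𝔛) basis_AFF _ fun _ _ =>
    ⟨fun _ _ e => Subtype.ext e, fun x => ⟨⟨x, hM _ x⟩, rfl⟩⟩

include hX in
/-- Colimits of quasi-coherent torsion modules. -/
theorem isQCT_colimit {J : Type u} [SmallCategory J] (D : J ⥤ FSch.ModF 𝔛 h)
    (hD : ∀ j, FTors.IsQCT 𝔛 h (D.obj j)) : FTors.IsQCT 𝔛 h (colimit D) := by
  haveI := isClosedUnderColimitsOfShape_indCoh h hX J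
  have hC : indCoh h (colimit D) := ObjectProperty.prop_colimit _ _ fun j => indCoh_of_isQCT hX (hD j)
  refine ⟨?_, isQuasicoherent_of_indCoh hX hC⟩
  haveI : ∀ j, IsIso ((FTors.gammaTι 𝔛 h).app (D.obj j)) := fun j => isIso_gammaι (hD j).1
  let c : Cocone D := Cocone.mk ((FTors.gammaT 𝔛 h).obj (colimit D))
    { app := fun j => inv ((FTors.gammaTι 𝔛 h).app (D.obj j)) ≫ (FTors.gammaT 𝔛 h).map (colimit.ι D j)
      naturality := fun i j g => by
        simp only [Functor.const_obj_obj, Functor.const_obj_map, Category.comp_id]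
        rw [IsIso.eq_inv_comp, ← Category.assoc, ← colimit.w D g, Functor.map_comp]
        have := (FTors.gammaTι 𝔛 h).naturality (D.map g)
        simp only [Functor.id_map] at this
        rw [← this, Category.assoc, IsIso.hom_inv_id_assoc] }
  have hid : colimit.desc D c ≫ (FTors.gammaTι 𝔛 h).app (colimit D) = 𝟙 _ := colimit.hom_ext fun j => by
    rw [colimit.ι_desc_assoc, Category.comp_id]
    show (inv _ ≫ _) ≫ _ = _
    rw [Category.assoc, (FTors.gammaTι 𝔛 h).naturality, IsIso.inv_hom_id_assoc]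
    rfl
  intro U s
  rw [show s = ((secMap (colimit.desc D c) U s : DerCompLib.Sec ((FTors.gammaT 𝔛 h).obj (colimit D)) U) :
      ↥(FTors.torsSub (FTors.openIdealFam 𝔛 h) (colimit D) U)).1 from
    (congrArg (fun φ => secMap φ U s) hid).symm]
  exact Subtype.prop _

end Groth.Agent.QCT3

namespace Groth.Agent.QCT3

variable {𝔛 : FSch.Sys.{u}} {h : 𝔛.IsFormal}

theorem closed_isQCT : (FTors.IsQCT 𝔛 h).IsClosedUnderIsomorphisms where
  of_iso {X Y} e hX := ⟨fun U s => by
      rw [show s = secMap e.hom U (secMap e.inv U s) from (congrArg (fun φ => secMap φ U s) e.inv_hom_id).symm]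
      exact FTors.IsTorsSect.hom e.hom (hX.1 U _),
    ObjectProperty.prop_of_iso (SheafOfModules.isQuasicoherent (ModSite.ringSh (𝔛.Osh h))) e hX.2⟩

/-- Closure under small colimits. -/
theorem closed_colimits (hX : 𝔛.IsLocNoethFormal) (J : Type u) [SmallCategory J] :
    (FTors.IsQCT 𝔛 h).IsClosedUnderColimitsOfShape J := by
  haveI := closed_isQCT (h := h)
  refine ObjectProperty.IsClosedUnderColimitsOfShape.mk' ?_
  rintro _ ⟨D, hD⟩
  exact isQCT_colimit hX D hD

end Groth.Agent.QCT3
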