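import Groth.Agent.QCT3.Colim
import Groth.Agent.DCat.ModulesGrothendieck
import Mathlib.CategoryTheory.Adjunction.AdjointFunctorTheorems
import Mathlib.CategoryTheory.Abelian.Subobject

/-!
# The coreflection onto quasi-coherent torsion modules
-/

set_option autoImplicit false
set_option backward.isDefEq.respectTransparency false
set_option linter.style.haveILetI false
set_option linter.unusedSectionVars false
set_option maxHeartbeats 1000000

universe u

open CategoryTheory CategoryTheory.Limits AlgebraicGeometry Opposite TopologicalSpace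
open Groth.Agent.FBlowLib Groth.Agent.DerCompLib Groth.Agent.Coherent Groth.Agent.FModLib

noncomputable section

namespace Groth.Agent.QCT3

section Generic

variable {T : TopCat.{u}} {O : Sheaf (Opens.grothendieckTopology T) CommRingCat.{u}}

variable (O) in
/-- The free module on an open. -/
abbrev genOn (V : Opens T) : ModSite.Mod O := DCat.freeOn (Opens.grothendieckTopology T) (ModSite.ringSh O) V

/-- Maps out of the free module on an open are sections. -/
def genEquiv (V : Opens T) (M : ModSite.Mod O) : (genOn O V ⟶ M) ≃ DerCompLib.Sec M V :=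
  ((PresheafOfModules.sheafificationAdjunction (𝟙 (ModSite.ringSh O).obj)).homEquiv _ _).trans
    PresheafOfModules.freeYonedaEquiv

theorem genEquiv_comp {V : Opens T} {M N : ModSite.Mod O} (k : genOn O V ⟶ M) (q : M ⟶ N) :
    genEquiv V N (k ≫ q) = secMap q V (genEquiv V M k) := by
  show PresheafOfModules.freeYonedaEquiv
    ((PresheafOfModules.sheafificationAdjunction (𝟙 (ModSite.ringSh O).obj)).homEquiv _ _ (k ≫ q)) = _
  rw [Adjunction.homEquiv_naturality_right, PresheafOfModules.freeYonedaEquiv_comp]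
  rfl

end Generic

variable (𝔛 : FSch.Sys.{u}) (h : 𝔛.IsFormal)

/-- A module with all coherent modules as quotients. -/
abbrev bigGen : FSch.ModF 𝔛 h :=
  ∐ fun p : ↥(𝔛.X 0).affineOpens × ULift.{u} ℕ => genOn (𝔛.Osh h) p.1.1

variable {𝔛 h} (hX : 𝔛.IsLocNoethFormal)

include hX in
theorem exists_epi_bigGen {G : FSch.ModF 𝔛 h} (hG : FSch.IsCohF 𝔛 h G) : ∃ π : bigGen 𝔛 h ⟶ G, Epi π := by
  have hgen : ∀ V : ↥(𝔛.X 0).affineOpens, ∃ s : ℕ → DerCompLib.Sec G V.1,
      Submodule.span (FBlowLib.Sec 𝔛 h V.1) (Set.range s) = ⊤ := fun V => by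
    haveI := (isPC_of_isCohF h hX G hG).finite V.1 V.2
    obtain ⟨n, s, hs⟩ := Module.Finite.exists_fin (R := FBlowLib.Sec 𝔛 h V.1) (M := DerCompLib.Sec G V.1)
    refine ⟨fun l => if hl : l < n then s ⟨l, hl⟩ else 0, top_unique (hs.ge.trans (Submodule.span_le.2 ?_))⟩
    rintro _ ⟨j, rfl⟩
    exact Submodule.subset_span ⟨j.1, by simp⟩
  choose s hs using hgen
  refine ⟨Sigma.desc fun p => (genEquiv p.1.1 G).symm (s p.1 p.2.down),
    Preadditive.epi_of_cancel_zero _ fun {Q} q hq => ?_⟩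
  refine hom_eq_zero_of_sec q fun U x y hy => ?_
  obtain ⟨V, hV, hyV, hVU⟩ := basis_AFF (𝔛 := 𝔛) U y hy
  refine ⟨V, hVU, hyV, ?_⟩
  have hx : mRes G hVU x ∈ LinearMap.ker (secMap q V) := by
    refine (Submodule.span_le.2 ?_ : _ ≤ _) ((hs ⟨V, hV⟩).ge (Submodule.mem_top : mRes G hVU x ∈ _))
    rintro _ ⟨l, rfl⟩
    have h1 := Sigma.ι (fun p : ↥(𝔛.X 0).affineOpens × ULift.{u} ℕ => genOn (𝔛.Osh h) p.1.1) (⟨V, hV⟩, ⟨l⟩) ≫= hq
    rw [comp_zero, Sigma.ι_desc_assoc] at h1
    have h2 := congrArg (genEquiv V Q) h1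
    rw [genEquiv_comp, Equiv.apply_symm_apply] at h2
    refine h2.trans ?_
    have h3 := genEquiv_comp (0 : genOn (𝔛.Osh h) V ⟶ G) (0 : G ⟶ Q)
    rw [comp_zero] at h3
    exact h3
  exact hx

theorem isTors_of_mono {M N : FSch.ModF 𝔛 h} (ι : M ⟶ N) [Mono ι] (hN : FTors.IsTorsF 𝔛 h N) :
    FTors.IsTorsF 𝔛 h M := by
  intro U s y hy
  obtain ⟨V, j, ⟨n, hn⟩, hyV⟩ := hN U (secMap ι U s) y hy
  refine ⟨V, j, ⟨n, fun V' g b hb => ?_⟩, hyV⟩
  have hinj : Function.Injective (secMap ι V') := (ModuleCat.mono_iff_injective _).1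
    (inferInstanceAs (Mono ((SheafOfModules.evaluation.{u} (ModSite.ringSh (𝔛.Osh h)) (op V')).map ι)))
  apply hinj
  rw [map_smul, map_zero]
  refine Eq.trans (congrArg (b • ·) ?_) (hn g b hb)
  exact (secMap_secRes' ι g _).trans (congrArg (secRes N g) (secMap_secRes' ι j s))

/-- The property on the full subcategory: quotients of the big module. -/
abbrev cokIdx : Type u :=
  {S : Shrink.{u} (Subobject (bigGen 𝔛 h)) // FTors.IsQCT 𝔛 h (cokernel ((equivShrink _).symm S).arrow)}

/-- The separating family. -/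
def cokFam (a : cokIdx (𝔛 := 𝔛) (h := h)) : (FTors.IsQCT 𝔛 h).FullSubcategory :=
  ⟨cokernel ((equivShrink _).symm a.1).arrow, a.2⟩

include hX in
theorem isSeparating_cokFam : (ObjectProperty.ofObj (cokFam (𝔛 := 𝔛) (h := h))).IsSeparating := by
  intro M N f g hfg
  haveI := weakSerre_cohP h hX
  haveI := closed_isQCT (h := h)
  refine ObjectProperty.hom_ext _ (sub_eq_zero.1 ?_)
  refine IndClass.covered_of_ind (cohP h) (indCoh_of_isQCT hX M.property) _ fun G k hG => ?_
  have hK := kerClosed_of_ind h hX (indCoh_of_isQCT hX M.property)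
  have hI : cohP h (Abelian.image k) := IndClass.prop_image (cohP h) k hK hG
  have hIq : FTors.IsQCT 𝔛 h (Abelian.image k) := ⟨isTors_of_mono (Abelian.image.ι k) M.property.1, by
    haveI : SheafOfModules.IsFinitePresentation.{u} (Abelian.image k) := hI
    infer_instance⟩
  obtain ⟨π, hπ⟩ := exists_epi_bigGen hX hI
  let e : cokernel (kernelSubobject π).arrow ≅ Abelian.image k :=
    cokernelIsoOfEq (kernelSubobject_arrow π).symm ≪≫ cokernelEpiComp _ _ ≪≫
      (cokernelIsCokernel _).coconePointUniqueUpToIso (Abelian.epiIsCokernelOfKernel _ (kernelIsKernel π))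
  let e' : cokernel ((equivShrink _).symm (equivShrink.{u} _ (kernelSubobject π))).arrow ≅ Abelian.image k :=
    eqToIso (congrArg (fun S : Subobject (bigGen 𝔛 h) => cokernel S.arrow) (Equiv.symm_apply_apply _ _)) ≪≫ e
  let a : cokIdx (𝔛 := 𝔛) (h := h) := ⟨equivShrink _ (kernelSubobject π),
    (FTors.IsQCT 𝔛 h).prop_of_iso e'.symm hIq⟩
  have h1 := congrArg (fun φ => φ.hom) (hfg _ ⟨a⟩
    (ObjectProperty.homMk (e'.hom ≫ Abelian.image.ι k) : cokFam a ⟶ M))
  simp only [ObjectProperty.FullSubcategory.comp_hom, ObjectProperty.homMk_hom, Category.assoc] at h1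
  rw [cancel_epi] at h1
  rw [← Abelian.image.fac k, Category.assoc, Preadditive.comp_sub, h1, sub_self, comp_zero]

include hX in
theorem isLeftAdjoint_ι : (FTors.IsQCT 𝔛 h).ι.IsLeftAdjoint := by
  haveI : ∀ (J : Type u) [SmallCategory J], (FTors.IsQCT 𝔛 h).IsClosedUnderColimitsOfShape J :=
    fun J _ => closed_colimits hX J
  haveI : HasColimitsOfSize.{u, u} (FTors.IsQCT 𝔛 h).FullSubcategory := ⟨fun _ _ => inferInstance⟩
  haveI : PreservesColimitsOfSize.{u, u} (FTors.IsQCT 𝔛 h).ι := ⟨fun {J} _ => by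
    haveI : CreatesColimitsOfShape J (FTors.IsQCT 𝔛 h).ι := inferInstance
    infer_instance⟩
  haveI : WellPowered.{u} ((FTors.IsQCT 𝔛 h).FullSubcategory)ᵒᵖ := by
    refine ⟨fun M => ?_⟩
    let F := (FTors.IsQCT 𝔛 h).ι
    haveI : ∀ {A B : ((FTors.IsQCT 𝔛 h).FullSubcategory)ᵒᵖ} (f : A ⟶ B) [Mono f], Mono (F.op.map f) :=
      fun f _ => (inferInstance : Mono (F.map f.unop).op)
    refine small_of_injective (f := fun S : Subobject M => Subobject.mk (F.op.map S.arrow)) fun S T hST => ?_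
    refine Subobject.eq_of_comm (F.op.preimageIso (Subobject.isoOfMkEqMk _ _ hST)) ?_
    apply F.op.map_injective
    rw [Functor.map_comp, Functor.preimageIso_hom, Functor.map_preimage]
    exact Subobject.ofMkLEMk_comp hST.le
  exact isLeftAdjoint_of_preservesColimits_of_isSeparating (isSeparating_cokFam hX) _

end Groth.Agent.QCT3
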