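import Groth.Agent.QCT3.Coreflect
import Groth.Agent.FModLib.RpushDInd
import Groth.Agent.FlatMor12.ThickFinite
import Groth.Agent.FSchLib.Levels
import Groth.Agent.Coherent.RpushCoh
import Groth.Agent.S17051
import Groth.Agent.FModLib.PullFF
import Groth.Agent.SerreDual.Colim
import Groth.Agent.Coherent.RpushSupport

/-!
# Higher direct images of quasi-coherent torsion modules
-/

set_option autoImplicit false
set_option backward.isDefEq.respectTransparency false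
set_option linter.style.haveILetI false
set_option linter.unusedSectionVars false
set_option maxHeartbeats 1000000

universe u

open CategoryTheory CategoryTheory.Limits AlgebraicGeometry Opposite TopologicalSpace
open Groth.Agent.FBlowLib Groth.Agent.DerCompLib Groth.Agent.Coherent Groth.Agent.FModLib

attribute [local instance] HasDerivedCategory.standard

noncomputable section

namespace Groth.Agent.QCT3

section One

variable {𝔛 : FSch.Sys.{u}} {h : 𝔛.IsFormal} (hX : 𝔛.IsLocNoethFormal)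

include hX in
theorem compactSpace_level [CompactSpace (𝔛.X 0)] (k : ℕ) : CompactSpace (𝔛.X k) :=
  haveI := FSchLib.surjective_toX hX.1 k
  (𝔛.toX k).surjective.compactSpace (𝔛.toX k).continuous

/-- Coherent killed-ness in terms of `KilledBy`. -/
theorem isTors_of_killed {k : ℕ} {M : FSch.ModF 𝔛 h} (hM : Killed h k M) : FTors.IsTorsF 𝔛 h M := by
  intro U s
  refine FTors.IsTorsSect.of_killedBy (n := k) fun V g b hb => ?_
  refine sec_ext_basis (P := AFF 𝔛) basis_AFF _ _ fun V' j hV' => ?_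
  rw [map_zero, mRes_smul]
  exact hM V' hV' _ ((FTors.mem_openIdealFam_iff 𝔛 h k V' _).1 ((FTors.openIdealFam 𝔛 h).map_mem' k (homOfLE j) b hb)) _

include hX in
theorem killed_up (k : ℕ) (G : (𝔛.X k).Modules) : Killed h k (up h k G) := fun V hV b hb m => by
  have hb' : b ∈ jdl h V ^ (k + 1) := by
    rw [← ((sec_props h hX hV).2 k).2, RingHom.mem_ker]
    exact hb
  have h1 := Submodule.smul_mem_smul hb' (Submodule.mem_top : m ∈ (⊤ : Submodule (FBlowLib.Sec 𝔛 h V) _))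
  rw [level_killed h hX hV k G] at h1
  exact (Submodule.mem_bot _).1 h1

include hX in
theorem preservesColimitsOfShape_up [CompactSpace (𝔛.X 0)] (k : ℕ) (Λ : Type u) [SmallCategory Λ] [IsFiltered Λ] :
    PreservesColimitsOfShape Λ (FSch.levelMor 𝔛 h k).push := by
  classical
  haveI := hX.2.2 k
  haveI := compactSpace_level hX k
  haveI : IsNoetherian (𝔛.X k) := {}
  haveI : NoetherianSpace (𝔛.X k).toTopCat := inferInstanceAs (NoetherianSpace (𝔛.X k))
  haveI : PrespectralSpace (𝔛.X k).toTopCat := inferInstanceAs (PrespectralSpace (𝔛.X k))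
  haveI : QuasiSeparatedSpace (𝔛.X k).toTopCat := inferInstanceAs (QuasiSeparatedSpace (𝔛.X k))
  refine ⟨fun {D} => ⟨fun {c} hc => ⟨?_⟩⟩⟩
  haveI : PreservesColimitsOfShape Λ (toAbFunctor (𝔛.X k)) :=
    SerreDual.preservesColimitsOfShape_toAb (𝔛.X k) Λ
  haveI : PreservesColimitsOfShape Λ (abF h) := DerCompLib.preservesColimitsOfShape_toSheaf (O := 𝔛.Osh h) Λ
  haveI : (abF h).ReflectsIsomorphisms := inferInstance
  haveI : ReflectsColimitsOfShape Λ (abF h) := reflectsColimitsOfShape_of_reflectsIsomorphisms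
  refine isColimitOfReflects (abF h) (isColimitOfReflects
    (sheafToPresheaf (Opens.grothendieckTopology (𝔛.X 0).toTopCat) AddCommGrpCat.{u})
    (evaluationJointlyReflectsColimits _ fun V => ?_))
  haveI := preservesColimitsOfShape_evaluation (X := (𝔛.X k).toTopCat) (Λ := Λ)
    (V := 𝔛.lvU h k V.unop) (NoetherianSpace.isCompact _)
  exact isColimitOfPreserves (toAbFunctor (𝔛.X k) ⋙
    sheafToPresheaf (Opens.grothendieckTopology (𝔛.X k).toTopCat) AddCommGrpCat.{u} ⋙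
    (evaluation _ _).obj (op (𝔛.lvU h k V.unop))) hc

include hX in
theorem isQCT_up [CompactSpace (𝔛.X 0)] (k : ℕ) (G : (𝔛.X k).Modules) (hG : Coh.IsQCoh G) :
    FTors.IsQCT 𝔛 h (up h k G) := by
  haveI := compactSpace_level hX k
  haveI := hX.2.2 k
  obtain ⟨J, _, _, pres, hc⟩ := exists_coh_presentation G hG
  haveI := preservesColimitsOfShape_up (h := h) hX k J
  exact ⟨isTors_of_killed (killed_up hX k G), isQuasicoherent_of_indCoh hX
    ⟨J, inferInstance, inferInstance, pres.map (FSch.levelMor 𝔛 h k).push,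
      fun j => (goodRing h hX).isFinitePresentation (isPC_up h hX k _ (hc j))⟩⟩

include hX in
/-- A coherent torsion module on a compact formal scheme is killed by one open ideal. -/
theorem exists_killed_of_coh [CompactSpace (𝔛.X 0)] {M : FSch.ModF 𝔛 h} (hc : FSch.IsCohF 𝔛 h M)
    (ht : FTors.IsTorsF 𝔛 h M) : ∃ k, Killed h k M := by
  classical
  have hloc : ∀ (W : ↥(𝔛.X 0).affineOpens) (s : DerCompLib.Sec M W.1),
      ∃ k, FTors.KilledBy (FTors.openIdealFam 𝔛 h) M k s := fun W s => by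
    choose V j hn hyV using fun y : (W.1 : Set (𝔛.X 0)) => ht W.1 s y.1 y.2
    choose n hn using hn
    obtain ⟨t, ht'⟩ := W.2.isCompact.elim_finite_subcover (fun y => (V y : Set (𝔛.X 0))) (fun y => (V y).2)
      fun y hy => Set.mem_iUnion.2 ⟨⟨y, hy⟩, hyV ⟨y, hy⟩⟩
    refine ⟨t.sup n, fun V' g b hb => ?_⟩
    let R : Sieve V' :=
      { arrows := fun U l => secRes M l (b • FTors.res M g s) = 0
        downward_closed := fun {U U'} l hl i => by rw [← FModLib.secRes_comp, hl, map_zero] }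
    refine DerCompLib.sec_ext M R (fun y hy => ?_) _ 0 fun U l hl =>
      (show secRes M l (b • FTors.res M g s) = 0 from hl).trans (map_zero _).symm
    obtain ⟨i, hi, hyi⟩ := Set.mem_iUnion₂.1 (ht' (leOfHom g hy))
    refine ⟨V' ⊓ V i, homOfLE inf_le_left, ?_, ⟨hy, hyi⟩⟩
    show secRes M _ (b • FTors.res M g s) = 0
    rw [secRes_smul']
    have h1 := (hn i).mono (Finset.le_sup hi) (homOfLE (inf_le_right : V' ⊓ V i ≤ V i)) _
      ((FTors.openIdealFam 𝔛 h).map_mem' _ (homOfLE (inf_le_left : V' ⊓ V i ≤ V')) b hb)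
    refine Eq.trans (congrArg _ ?_) h1
    refine ((FModLib.secRes_comp M g (homOfLE inf_le_left) s).trans ?_).trans
      (FModLib.secRes_comp M (j i) (homOfLE (inf_le_right : V' ⊓ V i ≤ V i)) s).symm
    exact congrArg (fun l => secRes M l s) (Subsingleton.elim _ _)
  obtain ⟨t, htf, hcov⟩ := isCompact_iff_finite_and_eq_biUnion_affineOpens.1
    (show IsCompact ((⊤ : (𝔛.X 0).Opens) : Set (𝔛.X 0)) from isCompact_univ)
  have hPC := isPC_of_isCohF h hX M hc
  have hW : ∀ W : ↥(𝔛.X 0).affineOpens, ∃ k, ∀ s : DerCompLib.Sec M W.1,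
      FTors.KilledBy (FTors.openIdealFam 𝔛 h) M k s := fun W => by
    haveI := hPC.finite W.1 W.2
    obtain ⟨q, g, hg⟩ := Module.Finite.exists_fin (R := FBlowLib.Sec 𝔛 h W.1) (M := DerCompLib.Sec M W.1)
    choose n hn using fun l => hloc W (g l)
    refine ⟨Finset.univ.sup n, fun s => ?_⟩
    refine Submodule.span_induction (p := fun s _ => FTors.KilledBy (FTors.openIdealFam 𝔛 h) M (Finset.univ.sup n) s)
      ?_ (FTors.KilledBy.zero _ _ _ _) (fun _ _ _ _ ha hb => ha.add hb) (fun c _ _ hb => hb.smul c)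
      (hg.ge (Submodule.mem_top : s ∈ _))
    rintro _ ⟨l, rfl⟩
    exact (hn l).mono (Finset.le_sup (Finset.mem_univ l))
  choose N hN using hW
  refine ⟨htf.toFinset.sup N, fun V hV b hb m => sec_ext_basis (P := AFF 𝔛) (U := V) (fun U x hx => ?_) _ _
    fun V' j hV' => ?_⟩
  · exact basis_AFF U x hx
  rw [map_zero, mRes_smul]
  have hb' : ∀ U' : (𝔛.X 0).Opens, ∀ i : U' ≤ V',
      oRes (𝔛.Osh h) i (oRes (𝔛.Osh h) j b) ∈ (FTors.openIdealFam 𝔛 h).ideal (htf.toFinset.sup N) U' := fun U' i =>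
    (FTors.openIdealFam 𝔛 h).map_mem' _ (homOfLE i) _ ((FTors.openIdealFam 𝔛 h).map_mem' _ (homOfLE j) b
      ((FTors.mem_openIdealFam_iff 𝔛 h _ V _).2 hb))
  refine sec_ext_basis (P := AFF 𝔛) (U := V') (fun U x hx => ?_) _ _ fun U' i hU' => ?_
  · exact basis_AFF U x hx
  rw [map_zero, mRes_smul, mRes_mRes]
  let R : Sieve U' :=
    { arrows := fun U l => secRes M l (oRes (𝔛.Osh h) i (oRes (𝔛.Osh h) j b) • mRes M (i.trans j) m) = 0
      downward_closed := fun {U U''} l hl o => by rw [← FModLib.secRes_comp, hl, map_zero] }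
  refine DerCompLib.sec_ext M R (fun y hy => ?_) _ 0 fun U l hl =>
    (show secRes M l _ = 0 from hl).trans (map_zero _).symm
  have hy' : y ∈ ⋃ W ∈ t, ((W : ↥(𝔛.X 0).affineOpens).1 : Set (𝔛.X 0)) := by
    have := hcov.le (Opens.mem_top y)
    simpa using this
  obtain ⟨W, hWt, hyW⟩ := Set.mem_iUnion₂.1 hy'
  obtain ⟨U, hU, hyU, hUle⟩ := basis_AFF (𝔛 := 𝔛) (U' ⊓ W.1) y ⟨hy, hyW⟩
  refine ⟨U, homOfLE (hUle.trans inf_le_left), ?_, hyU⟩
  show secRes M _ _ = 0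
  rw [secRes_smul', FModLib.secRes_comp]
  have hx : secRes M (homOfLE (hUle.trans inf_le_left) ≫ homOfLE (i.trans j)) m ∈
      Submodule.span (FBlowLib.Sec 𝔛 h U) (Set.range (mRes M (hUle.trans inf_le_right : U ≤ W.1))) :=
    hPC.span W.1 U _ W.2 hU ▸ Submodule.mem_top
  have hbU := (FTors.openIdealFam 𝔛 h).map_mem' (htf.toFinset.sup N) (homOfLE (hUle.trans inf_le_left)) _ (hb' U' i)
  refine Submodule.span_induction
    (p := fun x _ => ((𝔛.Osh h).obj.map (homOfLE (hUle.trans inf_le_left : U ≤ U')).op).hom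
      (oRes (𝔛.Osh h) i (oRes (𝔛.Osh h) j b)) • x = 0) ?_ (smul_zero _)
    (fun _ _ _ _ ha hb => by rw [smul_add, ha, hb, add_zero])
    (fun c x _ hx => by rw [smul_comm, hx, smul_zero]) hx
  rintro _ ⟨z, rfl⟩
  exact ((hN W z).mono (Finset.le_sup (htf.mem_toFinset.2 hWt))) (homOfLE (hUle.trans inf_le_right)) _ hbU

include hX in
theorem weakSerre_isQCT [CompactSpace (𝔛.X 0)] : WSerre.IsWeakSerre (FTors.IsQCT 𝔛 h) := by
  haveI := closed_isQCT (h := h)
  haveI := isWeakSerre_indCoh h hX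
  have hz : ∀ Z : FSch.ModF 𝔛 h, IsZero Z → FTors.IsTorsF 𝔛 h Z := fun Z hZ U s => by
    have h0 : s = secMap (0 : Z ⟶ Z) U s :=
      (congrArg (fun φ => secMap φ U s) (hZ.eq_of_src (𝟙 Z) 0) :)
    rw [h0]
    exact FTors.IsTorsSect.zero _ _ U
  haveI : (FTors.IsQCT 𝔛 h).ContainsZero := by
    obtain ⟨Z, hZ, hZP⟩ := (indCoh (𝔛 := 𝔛) h).exists_prop_of_containsZero
    exact ⟨⟨Z, hZ, hz Z hZ, isQuasicoherent_of_indCoh hX hZP⟩⟩
  haveI : (FTors.IsQCT 𝔛 h).IsClosedUnderKernels :=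
    ⟨by rintro _ ⟨φ, k, hk, hM, hN⟩
        exact (FTors.IsQCT 𝔛 h).prop_of_iso ((kernelIsKernel φ).conePointUniqueUpToIso hk)
          ⟨isTors_of_mono (kernel.ι φ) hM.1, isQuasicoherent_kernel hX hM.2 hN.2 φ⟩⟩
  haveI : (FTors.IsQCT 𝔛 h).IsClosedUnderCokernels :=
    ⟨by rintro _ ⟨φ, k, hk, hM, hN⟩
        refine (FTors.IsQCT 𝔛 h).prop_of_iso ((cokernelIsCokernel φ).coconePointUniqueUpToIso hk)
          ⟨?_, isQuasicoherent_cokernel hX hM.2 hN.2 φ⟩
        obtain ⟨Z, hZ⟩ := HasZeroObject.zero (C := FSch.ModF 𝔛 h)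
        let S : ShortComplex (FSch.ModF 𝔛 h) := ShortComplex.mk (cokernel.π φ) (0 : cokernel φ ⟶ Z) comp_zero
        exact S17051.isTors_middle h hX (S := S) ((S.exact_iff_epi rfl).2 inferInstance) hN.1 (hz Z hZ)⟩
  haveI : (FTors.IsQCT 𝔛 h).IsClosedUnderExtensions := ⟨fun {S} hS h₁ h₃ =>
    ⟨S17051.isTors_middle h hX hS.exact h₁.1 h₃.1, isQuasicoherent_of_indCoh hX
      (ind_extension h hX S hS (indCoh_of_isQCT hX h₁) (indCoh_of_isQCT hX h₃))⟩⟩
  exact {}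

/-- Coherent torsion modules. -/
abbrev cohT (h : 𝔛.IsFormal) : ObjectProperty (FSch.ModF 𝔛 h) := FTors.IsQCT 𝔛 h ⊓ cohP h

include hX in
theorem weakSerre_cohT [CompactSpace (𝔛.X 0)] : WSerre.IsWeakSerre (cohT h) := by
  haveI := weakSerre_isQCT (h := h) hX
  haveI := weakSerre_cohP h hX
  haveI : (cohT h).IsClosedUnderIsomorphisms :=
    ⟨fun e hM => ⟨(FTors.IsQCT 𝔛 h).prop_of_iso e hM.1, (cohP h).prop_of_iso e hM.2⟩⟩
  haveI : (cohT h).ContainsZero := by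
    obtain ⟨Z, hZ, hZP⟩ := (FTors.IsQCT 𝔛 h).exists_prop_of_containsZero
    obtain ⟨Z', hZ', hZP'⟩ := (cohP h).exists_prop_of_containsZero
    exact ⟨⟨Z, hZ, hZP, (cohP h).prop_of_iso (hZ'.iso hZ) hZP'⟩⟩
  haveI : (cohT h).IsClosedUnderKernels :=
    ⟨by rintro _ ⟨φ, k, hk, hM, hN⟩
        exact (cohT h).prop_of_iso ((kernelIsKernel φ).conePointUniqueUpToIso hk)
          ⟨(FTors.IsQCT 𝔛 h).prop_kernel φ hM.1 hN.1, (cohP h).prop_kernel φ hM.2 hN.2⟩⟩
  haveI : (cohT h).IsClosedUnderCokernels :=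
    ⟨by rintro _ ⟨φ, k, hk, hM, hN⟩
        exact (cohT h).prop_of_iso ((cokernelIsCokernel φ).coconePointUniqueUpToIso hk)
          ⟨(FTors.IsQCT 𝔛 h).prop_cokernel φ hM.1 hN.1, (cohP h).prop_cokernel φ hM.2 hN.2⟩⟩
  haveI : (cohT h).IsClosedUnderExtensions := ⟨fun {S} hS h₁ h₃ =>
    ⟨(FTors.IsQCT 𝔛 h).prop_X₂_of_shortExact hS h₁.1 h₃.1, (cohP h).prop_X₂_of_shortExact hS h₁.2 h₃.2⟩⟩
  exact {}

end One

section Two

variable {𝔛 𝔜 : FSch.Sys.{u}} (f : 𝔛 ⟶ 𝔜) {hX : 𝔛.IsFormal} {hY : 𝔜.IsFormal} (hX' : 𝔛.IsLocNoethFormal)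
  (hY' : 𝔜.IsLocNoethFormal) [CompactSpace (𝔛.X 0)] [CompactSpace (𝔜.X 0)]

include hX' hY' in
theorem isProper_app [IsProper ((f : FSch.Hom 𝔛 𝔜).app 0)] (k : ℕ) :
    IsProper ((f : FSch.Hom 𝔛 𝔜).app k) := by
  haveI := FSch.Sys.toX_isClosedImmersion 𝔛 hX'.1 k
  haveI := FSch.Sys.toX_isClosedImmersion 𝔜 hY'.1 k
  haveI := FSchLib.surjective_toX hX'.1 k
  haveI := hX'.2.2 k
  have w := FSch.Hom.toX_comm f k
  haveI : LocallyOfFiniteType ((f : FSch.Hom 𝔛 𝔜).app k) := by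
    refine (FlatMor12.locallyOfFiniteType_iff_of_fg ((f : FSch.Hom 𝔛 𝔜).app k) ((f : FSch.Hom 𝔛 𝔜).app 0)
      (𝔛.toX k) (𝔜.toX k) (fun U => FSchLib.isNilpotent_ker_of_surjective (𝔛.toX k) U) (fun U => ?_) w.symm).2
      inferInstance
    haveI := IsLocallyNoetherian.component_noetherian U
    exact IsNoetherian.noetherian _
  haveI := (FSchLib.isSeparated_iff_of_thickening (f := (f : FSch.Hom 𝔛 𝔜).app k) w.symm).2 inferInstance
  haveI : UniversallyClosed (𝔛.toX k ≫ (f : FSch.Hom 𝔛 𝔜).app k) := w ▸ inferInstance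
  haveI := UniversallyClosed.of_comp_surjective (𝔛.toX k) ((f : FSch.Hom 𝔛 𝔜).app k)
  constructor

variable [HasInjectiveResolutions (FSch.ModF 𝔛 hX)]

include hX' hY' in
theorem isQCT_rpush_up (k : ℕ) (G : (𝔛.X k).Modules) (hG : Coh.IsQCoh G) (q : ℕ) :
    FTors.IsQCT 𝔜 hY ((FSch.RpushF f hX hY q).obj (up hX k G)) := by
  haveI := hasInjectiveResolutions_modules (𝔛.X k)
  obtain ⟨e⟩ := nonempty_rpushF_up_iso f hX hY k G q
  haveI := closed_isQCT (h := hY)
  haveI := compactSpace_level hX' k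
  haveI := hX'.2.2 k
  haveI := hY'.2.2 k
  haveI : QuasiCompact ((f : FSch.Hom 𝔛 𝔜).app k) := inferInstance
  haveI : QuasiSeparated ((f : FSch.Hom 𝔛 𝔜).app k) := inferInstance
  exact (FTors.IsQCT 𝔜 hY).prop_of_iso e.symm
    (isQCT_up hY' k _ (isQCoh_rpush ((f : FSch.Hom 𝔛 𝔜).app k) G q))

include hX' in
theorem exists_up_of_cohT {M : FSch.ModF 𝔛 hX} (hM : cohT hX M) :
    ∃ (k : ℕ) (G : (𝔛.X k).Modules), Coh.IsQCoh G ∧ Nonempty (M ≅ up hX k G) := by
  obtain ⟨k, hk⟩ := exists_killed_of_coh hX' hM.2 hM.1.1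
  obtain ⟨G, ⟨e⟩⟩ := exists_iso_up hX k hX' hk
  exact ⟨k, G, isQCoh_of_up hX'
    (ObjectProperty.prop_of_iso (SheafOfModules.isQuasicoherent (ModSite.ringSh (𝔛.Osh hX))) e hM.1.2), ⟨e⟩⟩

include hX' hY' in
theorem isQCT_rpush {M : FSch.ModF 𝔛 hX} (hM : FTors.IsQCT 𝔛 hX M) (q : ℕ) :
    FTors.IsQCT 𝔜 hY ((FSch.RpushF f hX hY q).obj M) := by
  obtain ⟨Λ, _, _, pres, hc, hmono⟩ := exists_mono_presentation hX hX' (indCoh_of_isQCT hX' hM)
  haveI := preservesColimitsOfShape_rpushF f hX hY hX' q Λ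
  haveI := closed_isQCT (h := hY)
  haveI := closed_colimits (h := hY) hY' Λ
  refine ObjectProperty.prop_of_isColimit _ (pres.map (FSch.RpushF f hX hY q)).isColimit fun l => ?_
  haveI := hmono l
  haveI : SheafOfModules.IsFinitePresentation.{u} (pres.diag.obj l) := hc l
  obtain ⟨k, G, hG, ⟨e⟩⟩ := exists_up_of_cohT hX' (M := pres.diag.obj l)
    ⟨⟨isTors_of_mono (pres.ι.app l) hM.1, inferInstance⟩, hc l⟩
  exact (FTors.IsQCT 𝔜 hY).prop_of_iso ((FSch.RpushF f hX hY q).mapIso e).symm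
    (isQCT_rpush_up f hX' hY' k G hG q)

include hX' hY' in
theorem cohT_rpush [IsProper ((f : FSch.Hom 𝔛 𝔜).app 0)] {M : FSch.ModF 𝔛 hX} (hM : cohT hX M) (q : ℕ) :
    cohT hY ((FSch.RpushF f hX hY q).obj M) := by
  refine ⟨isQCT_rpush f hX' hY' hM.1 q, ?_⟩
  obtain ⟨k, G, hG, ⟨e⟩⟩ := exists_up_of_cohT hX' hM
  haveI := hasInjectiveResolutions_modules (𝔛.X k)
  haveI := weakSerre_cohP hY hY'
  haveI := weakSerre_cohP hX hX'
  haveI := hX'.2.2 k
  have hGc : Coh.IsCoh G := by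
    haveI : IsIso (((FSch.levelMor 𝔛 hX k).adj.counit).app G) := by
      haveI : (FSch.levelMor 𝔛 hX k).push.Full := ⟨fun χ => push_full hX hX' k χ⟩
      haveI : (FSch.levelMor 𝔛 hX k).push.Faithful := ⟨fun e => push_faithful hX k e⟩
      infer_instance
    exact isCoh_of_iso (((FSch.levelMor 𝔛 hX k).pull.mapIso e) ≪≫ asIso (((FSch.levelMor 𝔛 hX k).adj.counit).app G))
      (isCoh_down hX hX' M hM.2 k)
  obtain ⟨e'⟩ := nonempty_rpushF_up_iso f hX hY k G q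
  haveI := isProper_app f hX' hY' k
  haveI := hY'.2.2 k
  exact (cohP hY).prop_of_iso (((FSch.RpushF f hX hY q).mapIso e) ≪≫ e').symm
    ((goodRing hY hY').isFinitePresentation
      (isPC_up hY hY' k _ (isCoh_rpush ((f : FSch.Hom 𝔛 𝔜).app k) hGc q)))

include hX' hY' in
/-- The transfer to derived direct images. -/
theorem prop_hMod_rpushD (A : ObjectProperty (FSch.ModF 𝔛 hX)) [WSerre.IsWeakSerre A]
    (hA : ∀ M, A M → indCoh hX M) (A' : ObjectProperty (FSch.ModF 𝔜 hY)) [WSerre.IsWeakSerre A']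
    (hA' : ∀ M, A' M → indCoh hY M) [SiteCmp.HasRpushD (FSch.homMor f hX hY)]
    (h3 : ∀ M, A M → ∀ q, A' ((FSch.RpushF f hX hY q).obj M))
    (G : DerivedCategory (FSch.ModF 𝔛 hX)) (hG : ∀ i : ℤ, A (SiteCmp.HMod G i)) (i : ℤ) :
    A' (SiteCmp.HMod ((SiteCmp.RpushD (FSch.homMor f hX hY)).obj G) i) := by
  obtain ⟨e, B, hb, hacy⟩ := exists_basis_bound f hX hX'
  refine (SiteDer16.rpushD_cohIn_and_isIso (FSch.homMor f hX hY) A
    {V : Opens (𝔛.X 0).toTopCat | IsAffineOpen (X := 𝔛.X 0) V} ?_ ?_ (e : ℤ) ?_ G hG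
    A' {V : Opens (𝔜.X 0).toTopCat | IsAffineOpen (X := 𝔜.X 0) V} ?_ ?_ ?_).1 i
  · intro U
    obtain ⟨ι, Y, g, -, h2, h3'⟩ := exists_cover_of_basis (T := (𝔛.X 0).toTopCat)
      (B := fun V => IsAffineOpen (X := 𝔛.X 0) V) basis_AFF U ⊤ (GrothendieckTopology.top_mem _ _)
    exact ⟨ι, Y, g, h2, h3'⟩
  · intro V _
    refine ⟨0, fun T hT => ?_⟩
    obtain ⟨ι, Y, g, h1, h2, h3'⟩ := exists_cover_of_basis (T := (𝔛.X 0).toTopCat)
      (B := fun V => IsAffineOpen (X := 𝔛.X 0) V) basis_AFF V T hT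
    exact ⟨ι, Y, g, h1, h2, fun j M hM k hk => affine_subsingleton_HU hX hX' M (hA M hM) (h3' j) k hk⟩
  · exact fun M hM p hp' => isZero_rpushF_of_basis f hX hY M p (B := B) hb
      fun V hV => hacy M (hA M hM) V hV p (by exact_mod_cast hp')
  · intro U
    obtain ⟨ι, Y, g, -, h2, h3'⟩ := exists_cover_of_basis (T := (𝔜.X 0).toTopCat)
      (B := fun V => IsAffineOpen (X := 𝔜.X 0) V) basis_AFF U ⊤ (GrothendieckTopology.top_mem _ _)
    exact ⟨ι, Y, g, h2, h3'⟩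
  · intro V _
    refine ⟨0, fun T hT => ?_⟩
    obtain ⟨ι, Y, g, h1, h2, h3'⟩ := exists_cover_of_basis (T := (𝔜.X 0).toTopCat)
      (B := fun V => IsAffineOpen (X := 𝔜.X 0) V) basis_AFF V T hT
    exact ⟨ι, Y, g, h1, h2, fun j M hM k hk => affine_subsingleton_HU hY hY' M (hA' M hM) (h3' j) k hk⟩
  · exact fun M hM p => h3 M hM p

end Two

end Groth.Agent.QCT3
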