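import Groth.Agent.QCT3.HomColim
import Groth.Agent.QCT3.Push

/-!
# The coreflection onto quasi-coherent torsion modules preserves filtered colimits
-/

set_option autoImplicit false
set_option backward.isDefEq.respectTransparency false
set_option linter.style.haveILetI false
set_option linter.unusedSectionVars false
set_option maxHeartbeats 1000000

universe u

open CategoryTheory CategoryTheory.Limits AlgebraicGeometry Opposite TopologicalSpace
open Groth.Agent.FBlowLib Groth.Agent.DerCompLib Groth.Agent.Coherent Groth.Agent.FModLib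

noncomputable section

namespace Groth.Agent.QCT3

variable {𝔛 : FSch.Sys.{u}} {h : 𝔛.IsFormal} (hX : 𝔛.IsLocNoethFormal)

include hX in
/-- Coherent torsion modules separate. -/
theorem hom_eq_zero_of_coh {M N : (FTors.IsQCT 𝔛 h).FullSubcategory} (q : M ⟶ N)
    (hq : ∀ (G : (FTors.IsQCT 𝔛 h).FullSubcategory) (k : G ⟶ M), cohP h G.obj → k ≫ q = 0) : q.hom = 0 := by
  haveI := weakSerre_cohP h hX
  refine IndClass.covered_of_ind (cohP h) (indCoh_of_isQCT hX M.property) _ fun G k hG => ?_
  have hI : cohP h (Abelian.image k) :=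
    IndClass.prop_image (cohP h) k (kerClosed_of_ind h hX (indCoh_of_isQCT hX M.property)) hG
  have hIq : FTors.IsQCT 𝔛 h (Abelian.image k) := ⟨isTors_of_mono (Abelian.image.ι k) M.property.1, by
    haveI : SheafOfModules.IsFinitePresentation.{u} (Abelian.image k) := hI
    infer_instance⟩
  have h1 := congrArg (fun φ => φ.hom) (hq ⟨Abelian.image k, hIq⟩ (ObjectProperty.homMk (Abelian.image.ι k)) hI)
  rw [← Abelian.image.fac k, Category.assoc]
  exact (congrArg (Abelian.factorThruImage k ≫ ·) h1).trans comp_zero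

include hX in
theorem preservesColimit_coreflect [CompactSpace (𝔛.X 0)] (Q : FSch.ModF 𝔛 h ⥤ (FTors.IsQCT 𝔛 h).FullSubcategory)
    (adj : (FTors.IsQCT 𝔛 h).ι ⊣ Q) {J : Type u} [SmallCategory J] [IsFiltered J] (K : J ⥤ FSch.ModF 𝔛 h) :
    PreservesColimit K Q := by
  haveI := hX.2.2 0
  haveI : IsNoetherian (𝔛.X 0) := {}
  haveI : NoetherianSpace (𝔛.X 0).toTopCat := inferInstanceAs (NoetherianSpace (𝔛.X 0))
  haveI : PrespectralSpace (𝔛.X 0).toTopCat := inferInstanceAs (PrespectralSpace (𝔛.X 0))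
  haveI : QuasiSeparatedSpace (𝔛.X 0).toTopCat := inferInstanceAs (QuasiSeparatedSpace (𝔛.X 0))
  haveI := weakSerre_isQCT (h := h) hX
  haveI := closed_isQCT (h := h)
  haveI := closed_colimits (h := h) hX J
  haveI : CreatesColimitsOfShape J (FTors.IsQCT 𝔛 h).ι := inferInstance
  haveI : PreservesColimitsOfShape J (FTors.IsQCT 𝔛 h).ι := inferInstance
  haveI : HasColimitsOfShape J (FTors.IsQCT 𝔛 h).FullSubcategory := inferInstance
  haveI : Abelian (FTors.IsQCT 𝔛 h).FullSubcategory := inferInstance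
  have hpc : ∀ {G : FSch.ModF 𝔛 h}, cohP h G → IsPC (AFF 𝔛) G := fun hG => isPC_of_isCohF h hX _ hG
  refine ⟨fun {c} hc => ⟨?_⟩⟩
  let pres : ColimitPresentation J c.pt := { diag := K, ι := c.ι, isColimit := hc }
  let pres' : ColimitPresentation J (colimit (K ⋙ Q)).obj :=
    { diag := (K ⋙ Q) ⋙ (FTors.IsQCT 𝔛 h).ι
      ι := ((FTors.IsQCT 𝔛 h).ι.mapCocone (colimit.cocone (K ⋙ Q))).ι
      isColimit := isColimitOfPreserves (FTors.IsQCT 𝔛 h).ι (colimit.isColimit (K ⋙ Q)) }
  let φ := colimit.desc (K ⋙ Q) (Q.mapCocone c)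
  haveI : Mono φ := Preadditive.mono_of_cancel_zero _ fun {Z} g hg => by
    refine ObjectProperty.hom_ext _ (hom_eq_zero_of_coh hX g fun G k hG => ?_)
    obtain ⟨j, a, ha⟩ := HomColim.exists_stage_hom pres' (goodRing h hX) (hpc hG) (k ≫ g).hom
    have ha' : ObjectProperty.homMk a ≫ colimit.ι (K ⋙ Q) j = k ≫ g := ObjectProperty.hom_ext _ ha
    let a' := (adj.homEquiv G (K.obj j)).symm (ObjectProperty.homMk a)
    have h0 : a' ≫ c.ι.app j = 0 := by
      show (adj.homEquiv G (K.obj j)).symm _ ≫ _ = 0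
      rw [← Adjunction.homEquiv_naturality_right_symm]
      have h1 : (ObjectProperty.homMk a : G ⟶ Q.obj (K.obj j)) ≫ Q.map (c.ι.app j) = 0 := by
        have h2 : (ObjectProperty.homMk a : G ⟶ Q.obj (K.obj j)) ≫ colimit.ι (K ⋙ Q) j ≫ φ = 0 := by
          rw [← Category.assoc, ha', Category.assoc, hg, comp_zero]
        simpa [φ] using h2
      erw [h1]
      rw [Adjunction.homEquiv_counit, Functor.map_zero, zero_comp]
    obtain ⟨j', f, hf⟩ := HomColim.exists_stage_eq_zero pres (goodRing h hX) (hpc hG) a' h0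
    have h3 : (ObjectProperty.homMk a : G ⟶ Q.obj (K.obj j)) ≫ Q.map (K.map f) = 0 := by
      apply (adj.homEquiv G (K.obj j')).symm.injective
      rw [Adjunction.homEquiv_naturality_right_symm]
      exact hf.trans (by rw [Adjunction.homEquiv_counit, Functor.map_zero, zero_comp])
    rw [← ha', ← colimit.w (K ⋙ Q) f, ← Category.assoc]
    erw [h3]
    exact zero_comp
  haveI : Epi φ := Preadditive.epi_of_cancel_zero _ fun {Z} q hq => by
    refine ObjectProperty.hom_ext _ (hom_eq_zero_of_coh hX q fun G k hG => ?_)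
    obtain ⟨j, a, ha⟩ := HomColim.exists_stage_hom pres (goodRing h hX) (hpc hG) ((adj.homEquiv G c.pt).symm k)
    have h1 : k = (adj.homEquiv G (K.obj j)) a ≫ colimit.ι (K ⋙ Q) j ≫ φ := by
      rw [colimit.ι_desc]
      show k = _ ≫ Q.map (c.ι.app j)
      rw [← Adjunction.homEquiv_naturality_right]
      erw [ha]
      exact ((adj.homEquiv G c.pt).apply_symm_apply k).symm
    rw [h1]
    simp only [Category.assoc, hq, comp_zero]
  haveI : IsIso φ := isIso_of_mono_of_epi φ
  exact (colimit.isColimit (K ⋙ Q)).ofIsoColimit (Cocone.ext (asIso φ) fun j => colimit.ι_desc _ _)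

end Groth.Agent.QCT3
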