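import Groth.Agent.QCT3.Qcoh
import Groth.Agent.Coherent.SubFTApps
import Groth.Agent.FModLib.LevelPC
import Groth.Prelude.Def_FTors2

/-!
# Quasi-coherent torsion modules are filtered colimits of coherent modules
-/

set_option autoImplicit false
set_option backward.isDefEq.respectTransparency false
set_option linter.style.haveILetI false
set_option linter.unusedSectionVars false
set_option maxHeartbeats 1000000

universe u

open CategoryTheory CategoryTheory.Limits AlgebraicGeometry Opposite TopologicalSpace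
open Groth.Agent.FBlowLib Groth.Agent.DerCompLib Groth.Agent.Coherent Groth.Agent.FModLib

noncomputable section

namespace Groth.Agent.QCT3

variable {𝔛 : FSch.Sys.{u}} {h : 𝔛.IsFormal} (hX : 𝔛.IsLocNoethFormal)

theorem hom_eq_zero_of_sec {T : TopCat.{u}} {O : Sheaf (Opens.grothendieckTopology T) CommRingCat.{u}}
    {M N : ModSite.Mod O} (q : M ⟶ N)
    (hq : ∀ (U : Opens T) (x : DerCompLib.Sec M U) (y : T), y ∈ U →
      ∃ (V : Opens T) (i : V ≤ U), y ∈ V ∧ secMap q V (mRes M i x) = 0) : q = 0 := by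
  apply SheafOfModules.hom_ext
  apply PresheafOfModules.hom_ext
  intro U
  refine ModuleCat.hom_ext (LinearMap.ext fun (x : DerCompLib.Sec M U.unop) => ?_)
  show secMap q U.unop x = 0
  let R : Sieve U.unop :=
    { arrows := fun V g => secRes N g (secMap q U.unop x) = 0
      downward_closed := fun {V V'} g hg j => by rw [← FModLib.secRes_comp, hg, map_zero] }
  refine DerCompLib.sec_ext N R (fun y hy => ?_) _ 0 fun V g hg =>
    (show secRes N g (secMap q U.unop x) = 0 from hg).trans (map_zero _).symm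
  obtain ⟨V, i, hyV, hV⟩ := hq U.unop x y hy
  exact ⟨V, homOfLE i, (secMap_secRes' q _ x).symm.trans hV, hyV⟩

variable (h) in
/-- The constant family of the `k`-th open ideal. -/
def cstI (k : ℕ) : FTors.IdealFam (𝔛.Osh h) where
  ideal _ U := (FTors.openIdealFam 𝔛 h).ideal k U
  antitone' _ _ := le_rfl
  map_mem' _ _ _ g a ha := (FTors.openIdealFam 𝔛 h).map_mem' k g a ha

/-- The submodule of sections killed by the `k`-th open ideal. -/
abbrev kfun (k : ℕ) (M : FSch.ModF 𝔛 h) : FSch.ModF 𝔛 h := FTors.gammaObj (cstI h k) M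

abbrev kι (k : ℕ) (M : FSch.ModF 𝔛 h) : kfun k M ⟶ M := (FTors.gammaι (cstI h k)).app M

theorem killedBy_of_mem {k : ℕ} {M : FSch.ModF 𝔛 h} {U : (𝔛.X 0).Opens} {x : DerCompLib.Sec M U}
    (hx : FTors.IsTorsSect (cstI h k) M x) : FTors.KilledBy (FTors.openIdealFam 𝔛 h) M k x := by
  intro V g a ha
  refine DerCompLib.sec_ext M _ (FTors.IsTorsSect.res g hx) _ 0 fun V' j hj => ?_
  obtain ⟨n, hn⟩ := hj
  rw [map_zero, secRes_smul']
  have := hn (𝟙 V') _ ((FTors.openIdealFam 𝔛 h).map_mem' k j a ha)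
  rwa [FTors.res_id] at this

theorem killed_kfun (k : ℕ) (M : FSch.ModF 𝔛 h) : Killed h k (kfun k M) := by
  intro V _ b hb m
  refine Subtype.ext ?_
  have := killedBy_of_mem (k := k) (M := M) (x := m.1) m.2 (𝟙 V) b hb
  rwa [FTors.res_id] at this

instance mono_kι (k : ℕ) (M : FSch.ModF 𝔛 h) : Mono (kι k M) :=
  mono_of_injective_sec _ fun _ _ _ e => Subtype.ext e

section Sub

variable {W : (𝔛.X 0).Opens}

include hX in
/-- The common kernel of finitely many multiplications. -/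
theorem exists_killed_sub {M' : FSch.ModF 𝔛 h} (hM : indCoh h M') (htop : ∀ V : (𝔛.X 0).Opens, V ≤ ⊤ := fun _ => le_top) :
    ∀ (r : ℕ) (a : Fin r → FBlowLib.Sec 𝔛 h ⊤), ∃ (K : FSch.ModF 𝔛 h) (ι : K ⟶ M'), indCoh h K ∧
      (∀ (V : (𝔛.X 0).Opens) (x : DerCompLib.Sec M' V), AFF 𝔛 V → (∀ j, res 𝔛 h (htop V) (a j) • x = 0) →
        ∃ y, secMap ι V y = x) ∧
      ∀ (V : (𝔛.X 0).Opens) (y : DerCompLib.Sec K V), AFF 𝔛 V → ∀ j, res 𝔛 h (htop V) (a j) • secMap ι V y = 0 := by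
  intro r
  induction r with
  | zero => exact fun a => ⟨M', 𝟙 _, hM, fun V x _ _ => ⟨x, rfl⟩, fun V y _ j => j.elim0⟩
  | succ r ih =>
    intro a
    obtain ⟨K, ι, hK, hmem, hkill⟩ := ih fun j => a j.succ
    obtain ⟨μ, hμ⟩ := exists_hom_of_basis (P := AFF 𝔛) basis_AFF (M := M') (N := M')
      (fun V _ => (res 𝔛 h (htop V) (a 0)) • LinearMap.id) fun V V' j _ _ x => by
        rw [LinearMap.smul_apply, LinearMap.smul_apply, LinearMap.id_apply, LinearMap.id_apply, mRes_smul]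
        refine congrArg (· • _) ?_
        exact (ConcreteCategory.congr_hom ((𝔛.Osh h).obj.map_comp (homOfLE (htop V)).op (homOfLE j).op) (a 0)).symm
    have hμ' : ∀ (V : (𝔛.X 0).Opens), AFF 𝔛 V → ∀ x, secMap μ V x = res 𝔛 h (htop V) (a 0) • x := fun V hV x => by
      rw [hμ V hV x, LinearMap.smul_apply, LinearMap.id_apply]
    refine ⟨kernel (ι ≫ μ), kernel.ι _ ≫ ι, ind_kernel h hX hK hM _, fun V x hV hx => ?_, fun V y hV j => ?_⟩
    · obtain ⟨y, rfl⟩ := hmem V x hV fun j => hx j.succ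
      obtain ⟨z, rfl⟩ := exists_kernel_sec (ι ≫ μ) V y ((secMap_comp_apply _ _ _ _).trans
        ((hμ' V hV _).trans (hx 0)))
      exact ⟨z, secMap_comp_apply _ _ _ _⟩
    · rw [secMap_comp_apply]
      induction j using Fin.cases with
      | zero =>
        rw [← hμ' V hV]
        exact (secMap_comp_apply _ _ _ _).symm.trans (kernel_sec_condition _ V y)
      | succ j => exact hkill V _ hV j

theorem inv_res (V : ((sub h W).X 0).Opens) (c : FBlowLib.Sec (sub h W) (hsub h W) ⊤) :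
    ((ringIso h W).inv.hom.app (op V)).hom (res (sub h W) (hsub h W) (le_top : V ≤ ⊤) c) =
      res 𝔛 h ((opn h W).ι.image_mono (le_top : V ≤ ⊤))
        (((ringIso h W).inv.hom.app (op (⊤ : ((sub h W).X 0).Opens))).hom c) :=
  ConcreteCategory.congr_hom ((ringIso h W).inv.hom.naturality (homOfLE (le_top : V ≤ ⊤)).op) c

theorem inv_hom (c : FBlowLib.Sec 𝔛 h ((opn h W).ι ''ᵁ ⊤)) :
    ((ringIso h W).inv.hom.app (op (⊤ : ((sub h W).X 0).Opens))).hom
      (((ringIso h W).hom.hom.app (op (⊤ : ((sub h W).X 0).Opens))).hom c) = c :=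
  ConcreteCategory.congr_hom
    (congr_app (congrArg (fun φ => φ.hom) (ringIso h W).hom_inv_id) (op (⊤ : ((sub h W).X 0).Opens))) c

include hX in
theorem mem_openIdeal_iff {k : ℕ} {V : (𝔛.X 0).Opens} (hV : IsAffineOpen V) (b : FBlowLib.Sec 𝔛 h V) :
    b ∈ (FTors.openIdealFam 𝔛 h).ideal k V ↔ b ∈ jdl h V ^ (k + 1) := by
  rw [← ((sec_props h hX hV).2 k).2]
  rfl

include hX in
/-- Being killed is checked on generators of the ideal. -/
theorem killedBy_of_gens {k q : ℕ} {M : FSch.ModF 𝔛 h} {U₀ U : (𝔛.X 0).Opens} (hU₀ : IsAffineOpen U₀) (i : U ≤ U₀)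
    (a : Fin q → FBlowLib.Sec 𝔛 h U₀) (ha : Submodule.span _ (Set.range a) = jdl h U₀ ^ (k + 1))
    (x : DerCompLib.Sec M U) (hx : ∀ l, res 𝔛 h i (a l) • x = 0) : FTors.KilledBy (cstI h k) M 0 x := by
  intro V g b hb
  refine sec_ext_basis (P := AFF 𝔛) basis_AFF _ _ fun V' j hV' => ?_
  rw [map_zero, mRes_smul]
  have hle : V' ≤ U₀ := (j.trans (leOfHom g)).trans i
  have hb' : oRes (𝔛.Osh h) j b ∈ (jdl h U₀ ^ (k + 1)).map (res 𝔛 h hle) := by
    rw [Ideal.map_pow, map_jdl_eq h hX hle hU₀ hV']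
    exact (mem_openIdeal_iff hX hV' _).1 ((FTors.openIdealFam 𝔛 h).map_mem' k (homOfLE j) b hb)
  rw [← ha, Ideal.map_span, ← Set.range_comp] at hb'
  refine Submodule.span_induction (p := fun c _ => c • mRes M j (FTors.res M g x) = 0) ?_ (zero_smul _ _)
    (fun u v _ _ hu hv => by rw [add_smul, hu, hv, add_zero])
    (fun c u _ hu => by rw [smul_eq_mul, mul_smul, hu, smul_zero]) hb'
  rintro _ ⟨l, rfl⟩
  have h2 := congrArg (mRes M (j.trans (leOfHom g))) (hx l)
  rw [map_zero, mRes_smul] at h2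
  refine Eq.trans ?_ h2
  refine congrArg₂ (· • ·) ?_ (mRes_mRes _ _ _)
  exact ConcreteCategory.congr_hom ((𝔛.Osh h).obj.map_comp (homOfLE i).op (homOfLE (j.trans (leOfHom g))).op) (a l)

include hX in
/-- Killed sections are killed by the generators. -/
theorem gens_smul_eq_zero {k q : ℕ} {M : FSch.ModF 𝔛 h} {U₀ U : (𝔛.X 0).Opens} (hU₀ : IsAffineOpen U₀) (i : U ≤ U₀)
    (a : Fin q → FBlowLib.Sec 𝔛 h U₀) (ha : Submodule.span _ (Set.range a) = jdl h U₀ ^ (k + 1))
    (z : DerCompLib.Sec (kfun k M) U) (l : Fin q) : res 𝔛 h i (a l) • z.1 = 0 := by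
  have := killedBy_of_mem (k := k) (M := M) (x := z.1) z.2 (𝟙 _) (res 𝔛 h i (a l))
    ((FTors.openIdealFam 𝔛 h).map_mem' k (homOfLE i) (a l)
      ((mem_openIdeal_iff hX hU₀ _).2 (ha ▸ Submodule.subset_span ⟨l, rfl⟩)))
  rwa [FTors.res_id] at this

include hX in
theorem indCoh_of_ranges {M' K K' : FSch.ModF 𝔛 h} (hM : indCoh h M') (hK : indCoh h K) (ι : K ⟶ M')
    (ι' : K' ⟶ M') [Mono ι'] (h1 : ∀ V, AFF 𝔛 V → ∀ y, ∃ z, secMap ι' V z = secMap ι V y)
    (h2 : ∀ V, AFF 𝔛 V → ∀ z, ∃ y, secMap ι V y = secMap ι' V z)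
    (hinj : ∀ V, Function.Injective (secMap ι' V)) : indCoh h K' := by
  haveI := weakSerre_cohP h hX
  have hfac : ι ≫ cokernel.π ι' = 0 := hom_eq_zero_of_sec _ fun U x y hy => by
    obtain ⟨V, hV, hyV, hVU⟩ := basis_AFF (𝔛 := 𝔛) U y hy
    obtain ⟨z, hz⟩ := h1 V hV (mRes K hVU x)
    refine ⟨V, hVU, hyV, ?_⟩
    rw [secMap_comp_apply, ← hz, ← secMap_comp_apply, cokernel.condition]
    rfl
  haveI : Epi (Abelian.monoLift ι' ι hfac) := epi_of_forall (P := AFF 𝔛) basis_AFF _ fun V hV z => by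
    obtain ⟨y, hy⟩ := h2 V hV z
    exact ⟨y, hinj V (by rw [← secMap_comp_apply, Abelian.monoLift_comp, hy])⟩
  exact IndClass.ind_of_covered (cohP h)
    ((IndClass.covered_of_ind (cohP h) hK).of_epi _ (Abelian.monoLift ι' ι hfac))
    ((kerClosed_of_ind h hX hM).of_mono _ ι')

theorem secMap_toSub_kι {k : ℕ} {M : FSch.ModF 𝔛 h} {V : ((sub h W).X 0).Opens}
    (z : DerCompLib.Sec (kfun k M) ((opn h W).ι ''ᵁ V)) :
    secMap ((toSub h W).map (kι k M)) V (show DerCompLib.Sec ((toSub h W).obj (kfun k M)) V from z) =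
      (show DerCompLib.Sec ((toSub h W).obj M) V from z.1) := rfl

include hX in
set_option maxHeartbeats 4000000 in
/-- The killed submodule is ind-coherent on small affines. -/
theorem indCoh_toSub_kfun (hW : IsAffineOpen W) {M : FSch.ModF 𝔛 h}
    (hi : indCoh (hsub h W) ((toSub h W).obj M)) (k : ℕ) : indCoh (hsub h W) ((toSub h W).obj (kfun k M)) := by
  have hX' := locNoeth_sub h hX W
  have hU := isAffineOpen_image_top (h := h) hX hW
  haveI := isNoetherianRing_sec h hX hU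
  obtain ⟨q, a, ha⟩ := Submodule.fg_iff_exists_fin_generating_family.1
    (IsNoetherian.noetherian (jdl h ((opn h W).ι ''ᵁ ⊤) ^ (k + 1)) : (jdl h ((opn h W).ι ''ᵁ ⊤) ^ (k + 1)).FG)
  obtain ⟨K, ι, hK, hmem, hkill⟩ := exists_killed_sub hX' hi (fun _ => le_top) q
    (fun j => ((ringIso h W).hom.hom.app (op (⊤ : ((sub h W).X 0).Opens))).hom (a j))
  have hsm : ∀ (V : ((sub h W).X 0).Opens) (j : Fin q) (x : DerCompLib.Sec ((toSub h W).obj M) V),
      res (sub h W) (hsub h W) (le_top : V ≤ ⊤)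
          (((ringIso h W).hom.hom.app (op (⊤ : ((sub h W).X 0).Opens))).hom (a j)) • x =
        (show DerCompLib.Sec ((toSub h W).obj M) V from res 𝔛 h ((opn h W).ι.image_mono (le_top : V ≤ ⊤)) (a j) •
          (show DerCompLib.Sec M ((opn h W).ι ''ᵁ V) from x)) := fun V j x => by
    rw [sub_smul', inv_res, inv_hom]
  refine indCoh_of_ranges hX' hi hK ι ((toSub h W).map (kι k M)) (fun V hV y => ?_) (fun V hV z => ?_)
    fun V x y e => Subtype.ext e
  · let x : DerCompLib.Sec M ((opn h W).ι ''ᵁ V) := secMap ι V y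
    have hx : ∀ l, res 𝔛 h ((opn h W).ι.image_mono (le_top : V ≤ ⊤)) (a l) • x = 0 := fun l => by
      have h0 := hkill V y hV l
      rw [hsm] at h0
      exact h0
    let z' : DerCompLib.Sec (kfun k M) ((opn h W).ι ''ᵁ V) := ⟨x, FTors.IsTorsSect.of_killedBy (n := 0)
      (killedBy_of_gens hX hU ((opn h W).ι.image_mono le_top) a ha x hx)⟩
    exact ⟨_, (secMap_toSub_kι z').trans rfl⟩
  · let z' : DerCompLib.Sec (kfun k M) ((opn h W).ι ''ᵁ V) := z
    rw [show z = (show DerCompLib.Sec ((toSub h W).obj (kfun k M)) V from z') from rfl, secMap_toSub_kι]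
    refine hmem V _ hV fun l => ?_
    rw [hsm]
    exact gens_smul_eq_zero hX hU ((opn h W).ι.image_mono le_top) a ha z' l

include hX in
theorem isQuasicoherent_kfun {M : FSch.ModF 𝔛 h} (hM : SheafOfModules.IsQuasicoherent.{u} M) (k : ℕ) :
    SheafOfModules.IsQuasicoherent.{u} (kfun k M) :=
  isQuasicoherent_of_indCoh_toSub hX fun x => by
    obtain ⟨W, hW, hxW, -, hi⟩ := exists_indCoh_toSub hX hM x (V := ⊤) trivial
    exact ⟨W, hW, hxW, indCoh_toSub_kfun hX hW (hi W le_rfl) k⟩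

/-- Killed sections are torsion. -/
def kToGamma (k : ℕ) (M : FSch.ModF 𝔛 h) : kfun k M ⟶ FTors.gammaObj (FTors.openIdealFam 𝔛 h) M :=
  ⟨PresheafOfModules.homMk
    { app := fun _ => AddCommGrpCat.ofHom
        { toFun := fun s => ⟨s.1, FTors.IsTorsSect.of_killedBy (killedBy_of_mem s.2)⟩
          map_zero' := rfl
          map_add' := fun _ _ => rfl }
      naturality := fun _ _ _ => by ext s; rfl }
    fun _ _ _ => rfl⟩

include hX in
theorem isQuasicoherent_gammaT {M : FSch.ModF 𝔛 h} (hM : SheafOfModules.IsQuasicoherent.{u} M) :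
    SheafOfModules.IsQuasicoherent.{u} ((FTors.gammaT 𝔛 h).obj M) := by
  refine isQuasicoherent_of_indCoh_toSub hX fun x => ?_
  obtain ⟨W, hW, hxW, -, hi⟩ := exists_indCoh_toSub hX hM x (V := ⊤) trivial
  refine ⟨W, hW, hxW, ?_⟩
  have hX' := locNoeth_sub h hX W
  haveI := weakSerre_cohP (hsub h W) hX'
  haveI : Mono ((FTors.gammaι (FTors.openIdealFam 𝔛 h)).app M) :=
    mono_of_injective_sec _ fun _ _ _ e => Subtype.ext e
  refine IndClass.ind_of_covered (cohP (hsub h W)) (fun Q q hq => ?_)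
    ((kerClosed_of_ind (hsub h W) hX' (hi W le_rfl)).of_mono _
      ((toSub h W).map ((FTors.gammaι (FTors.openIdealFam 𝔛 h)).app M)))
  have hn : ∀ n, (toSub h W).map (kToGamma n M) ≫ q = 0 := fun n =>
    IndClass.covered_of_ind (cohP (hsub h W)) (indCoh_toSub_kfun hX hW (hi W le_rfl) n) _ fun G g hG => by
      rw [← Category.assoc]
      exact hq _ hG
  refine hom_eq_zero_of_sec q fun U x y hy => ?_
  obtain ⟨V, j, ⟨n, hjn⟩, hyV⟩ := x.2 ((opn h W).ι.base y) ⟨y, hy, rfl⟩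
  let V' : ((sub h W).X 0).Opens := ((opn h W).ι ⁻¹ᵁ V) ⊓ U
  have hle : (opn h W).ι ''ᵁ V' ≤ V := by
    rintro _ ⟨z, hz, rfl⟩
    exact hz.1
  refine ⟨V', inf_le_right, ⟨hyV, hy⟩, ?_⟩
  have hk : FTors.KilledBy (cstI h n) M 0 (mRes M ((opn h W).ι.image_mono (inf_le_right : V' ≤ U)) x.1) := by
    intro V'' g b hb
    have := hjn (homOfLE ((leOfHom g).trans hle)) b hb
    rw [← FTors.res_comp] at this
    refine Eq.trans ?_ this
    refine congrArg (b • ·) ?_
    exact (FTors.res_comp _ _ _ _).symm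
  exact (secMap_comp_apply ((toSub h W).map (kToGamma n M)) q V'
    (⟨_, FTors.IsTorsSect.of_killedBy hk⟩ : DerCompLib.Sec ((toSub h W).obj (kfun n M)) V')).symm.trans
      (congrArg (fun ψ => secMap ψ V' _) (hn n))

theorem isTors_gammaT (M : FSch.ModF 𝔛 h) : FTors.IsTorsF 𝔛 h ((FTors.gammaT 𝔛 h).obj M) := by
  intro U s y hy
  obtain ⟨V, j, ⟨n, hn⟩, hyV⟩ := s.2 y hy
  exact ⟨V, j, ⟨n, fun V' g b hb => Subtype.ext (hn g b hb)⟩, hyV⟩

end Sub

include hX in
/-- Quasi-coherent torsion modules are filtered colimits of coherent modules. -/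
theorem indCoh_of_isQCT {M : FSch.ModF 𝔛 h} (hM : FTors.IsQCT 𝔛 h M) : indCoh h M := by
  haveI := weakSerre_cohP h hX
  refine IndClass.ind_of_covered (cohP h) (fun Q q hq => ?_) (fun G f hG => ?_)
  · refine hom_eq_zero_of_sec q fun U x y hy => ?_
    obtain ⟨V, j, ⟨n, hjn⟩, hyV⟩ := hM.1 U x y hy
    refine ⟨V, leOfHom j, hyV, ?_⟩
    let z : DerCompLib.Sec (kfun n M) V := ⟨mRes M (leOfHom j) x,
      FTors.IsTorsSect.of_killedBy (n := 0) (I := cstI h n) (M := M) (fun V' g b hb => hjn g b hb)⟩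
    obtain ⟨F, ⟨e⟩⟩ := exists_iso_up h n hX (killed_kfun (h := h) n M)
    haveI : Coh.IsQCoh F := isQCoh_of_up hX
      (ObjectProperty.prop_of_iso (SheafOfModules.isQuasicoherent (ModSite.ringSh (𝔛.Osh h))) e
        (isQuasicoherent_kfun hX hM.2 n))
    haveI := hX.2.2 n
    obtain ⟨P, hP, hmem⟩ := exists_good_containing_locallyNoetherian (F := F) (fun p => by
        obtain ⟨W₁, hW₁, hpW, -⟩ := Opens.isBasis_iff_nbhd.mp (𝔛.X n).isBasis_affineOpens
          (show p ∈ (⊤ : (𝔛.X n).Opens) from trivial)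
        haveI := IsLocallyNoetherian.component_noetherian (X := 𝔛.X n) ⟨W₁, hW₁⟩
        exact ⟨W₁, hpW, noetherianSpace_of_isAffineOpen W₁ hW₁⟩)
      (U := 𝔛.lvU h n V) (fun _ : PUnit.{u + 1} => upVal h (secMap e.hom V z))
    have hG : cohP h (up h n P.toMod) := (goodRing h hX).isFinitePresentation
      (isPC_up h hX n P.toMod ⟨SubM.isQCoh hP, SubM.isFT hP⟩)
    have h1 := hq ((FSch.levelMor 𝔛 h n).push.map P.toι ≫ e.inv ≫ kι n M) hG
    let zP : Γ(P.toMod, 𝔛.lvU h n V) := (⟨upVal h (secMap e.hom V z), hmem PUnit.unit⟩ : ↥(P.carrier (𝔛.lvU h n V)))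
    have h2 := congrArg (fun ψ => secMap ψ V ((upVal h).symm zP)) h1
    simp only [secMap_comp_apply] at h2
    have h3 : secMap ((FSch.levelMor 𝔛 h n).push.map P.toι) V ((upVal h).symm zP) =
        secMap e.hom V z := rfl
    rw [h3, show secMap e.inv V (secMap e.hom V z) = z from congrArg (fun φ => secMap φ V z) e.hom_inv_id] at h2
    exact h2
  · have hqG : SheafOfModules.IsQuasicoherent.{u} G := by
      haveI : SheafOfModules.IsFinitePresentation.{u} G := hG
      infer_instance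
    exact isCohF_of_qcoh_ft h hX (isQuasicoherent_kernel hX hqG hM.2 f)
      (isFiniteType_of_mono h hX hG (isQuasicoherent_kernel hX hqG hM.2 f) (kernel.ι f))

end Groth.Agent.QCT3
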