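import Groth.Agent.FModLib.HomBasis
import Groth.Agent.FModLib.SecColim
import Groth.Agent.QCT3.Main
import Mathlib.Topology.NoetherianSpace

/-!
# Maps out of modules with finite sections over a basis commute with filtered colimits
-/

set_option autoImplicit false
set_option backward.isDefEq.respectTransparency false
set_option linter.style.haveILetI false
set_option linter.unusedSectionVars false
set_option maxHeartbeats 1000000

universe u

open CategoryTheory CategoryTheory.Limits Opposite TopologicalSpace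
open Groth.Agent.DerCompLib Groth.Agent.FModLib

noncomputable section

namespace Groth.Agent.QCT3.HomColim

variable {T : TopCat.{u}} [PrespectralSpace T] [QuasiSeparatedSpace T] [NoetherianSpace T]
  {O : Sheaf (Opens.grothendieckTopology T) CommRingCat.{u}} {Λ : Type u} [SmallCategory Λ] [IsFiltered Λ]
  {M : ModSite.Mod O} (pres : ColimitPresentation Λ M) {P : Opens T → Prop} {G : ModSite.Mod O}

theorem w_sec {j k : Λ} (f : j ⟶ k) (U : Opens T) (y : Sec (pres.diag.obj j) U) :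
    secMap (pres.ι.app k) U (secMap (pres.diag.map f) U y) = secMap (pres.ι.app j) U y :=
  congrArg (fun φ => secMap φ U y) (pres.w f)

theorem secMap_lincomb {X Y : ModSite.Mod O} (g : X ⟶ Y) (U : Opens T) {ι : Type*} [Fintype ι]
    (a : ι → O.obj.obj (op U)) (z : ι → Sec X U) :
    secMap g U (∑ l, a l • z l) = ∑ l, a l • secMap g U (z l) :=
  (map_sum (secMap g U) _ _).trans (Finset.sum_congr rfl fun _ _ => (secMap g U).map_smul _ _)

theorem mRes_lincomb {X : ModSite.Mod O} {U V : Opens T} (h : V ≤ U) {ι : Type*} [Fintype ι]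
    (a : ι → O.obj.obj (op U)) (z : ι → Sec X U) :
    mRes X h (∑ l, a l • z l) = ∑ l, oRes O h (a l) • mRes X h (z l) :=
  (map_sum (mRes X h) _ _).trans (Finset.sum_congr rfl fun _ _ => mRes_smul h _ _)

/-- Finitely many sections vanishing in the colimit vanish at a common stage. -/
theorem exists_kill {ι : Type*} (s : Finset ι) {U : ι → Opens T} {j : Λ} (y : ∀ p, Sec (pres.diag.obj j) (U p))
    (hy : ∀ p, secMap (pres.ι.app j) (U p) (y p) = 0) :
    ∃ (k : Λ) (f : j ⟶ k), ∀ p ∈ s, secMap (pres.diag.map f) (U p) (y p) = 0 := by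
  classical
  induction s using Finset.induction generalizing j with
  | empty => exact ⟨j, 𝟙 j, by simp⟩
  | insert a s _ ih =>
    obtain ⟨k, f, hf⟩ := exists_sec_eq_zero pres (NoetherianSpace.isCompact _) (y a) (hy a)
    obtain ⟨k', f', hf'⟩ := ih (fun p => secMap (pres.diag.map f) (U p) (y p)) fun p => (w_sec pres f _ _).trans (hy p)
    refine ⟨k', f ≫ f', fun p hp => ?_⟩
    rw [Functor.map_comp]
    show secMap (pres.diag.map f') (U p) (secMap (pres.diag.map f) (U p) (y p)) = 0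
    rcases Finset.mem_insert.1 hp with rfl | hp
    · rw [hf, map_zero]
    · exact hf' p hp

variable (hG : GoodRing O P) (hPC : IsPC P G)

include hG hPC in
/-- Finite cover with generators. -/
theorem exists_data : ∃ (m : ℕ) (W : Fin m → Opens T) (n : Fin m → ℕ) (s : ∀ i, Fin (n i) → Sec G (W i)),
    (∀ i, P (W i)) ∧ (∀ x : T, ∃ i, x ∈ W i) ∧
      ∀ i, Submodule.span (O.obj.obj (op (W i))) (Set.range (s i)) = ⊤ := by
  classical
  choose W hW hxW _ using fun x : T => hG.basis ⊤ x trivial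
  obtain ⟨t, ht⟩ := (NoetherianSpace.isCompact (Set.univ : Set T)).elim_finite_subcover (fun x => (W x : Set T))
    (fun x => (W x).2) fun x _ => Set.mem_iUnion.2 ⟨x, hxW x⟩
  choose n s hs using fun i : Fin t.card =>
    haveI := hPC.finite _ (hW (t.equivFin.symm i).1)
    Module.Finite.exists_fin (R := O.obj.obj (op (W (t.equivFin.symm i).1))) (M := Sec G (W (t.equivFin.symm i).1))
  refine ⟨t.card, _, n, s, fun i => hW _, fun x => ?_, hs⟩
  obtain ⟨y, hy, hxy⟩ := Set.mem_iUnion₂.1 (ht (Set.mem_univ x))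
  exact ⟨t.equivFin ⟨y, hy⟩, by simpa using hxy⟩

theorem small_basis {m : ℕ} {W : Fin m → Opens T} (hb : ∀ (U : Opens T) (x : T), x ∈ U → ∃ V, P V ∧ x ∈ V ∧ V ≤ U)
    (hcov : ∀ x : T, ∃ i, x ∈ W i) (U : Opens T) (x : T) (hx : x ∈ U) :
    ∃ V, (P V ∧ ∃ i, V ≤ W i) ∧ x ∈ V ∧ V ≤ U := by
  obtain ⟨i, hi⟩ := hcov x
  obtain ⟨V, hV, hxV, hVU⟩ := hb (U ⊓ W i) x ⟨hx, hi⟩
  exact ⟨V, ⟨hV, i, hVU.trans inf_le_right⟩, hxV, hVU.trans inf_le_left⟩

variable {m : ℕ} {W : Fin m → Opens T} {n : Fin m → ℕ} {s : ∀ i, Fin (n i) → Sec G (W i)}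
  (hW : ∀ i, P (W i)) (hcov : ∀ x : T, ∃ i, x ∈ W i)
  (hs : ∀ i, Submodule.span (O.obj.obj (op (W i))) (Set.range (s i)) = ⊤)

include hG hPC hW hcov hs in
/-- Morphisms are determined on the generators. -/
theorem hom_ext_gens {N : ModSite.Mod O} (a b : G ⟶ N)
    (h : ∀ i l, secMap a (W i) (s i l) = secMap b (W i) (s i l)) : a = b := by
  refine sub_eq_zero.1 (hom_eq_zero_of_sec _ fun U x y hy => ?_)
  obtain ⟨V, ⟨hV, i, hVi⟩, hyV, hVU⟩ := small_basis hG.basis hcov U y hy
  refine ⟨V, hVU, hyV, ?_⟩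
  have h1 : secMap a V = secMap b V := LinearMap.ext_on_range (hPC.span_range hVi (hW i) hV _ (hs i)) fun l => by
    rw [secMap_mRes, secMap_mRes, h]
  exact sub_eq_zero.2 (LinearMap.congr_fun h1 _)

include hG hPC in
/-- A map from such a module killed in the colimit is killed at a stage. -/
theorem exists_stage_eq_zero {j : Λ} (g : G ⟶ pres.diag.obj j) (hg : g ≫ pres.ι.app j = 0) :
    ∃ (k : Λ) (f : j ⟶ k), g ≫ pres.diag.map f = 0 := by
  obtain ⟨m, W, n, s, hW, hcov, hs⟩ := exists_data hG hPC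
  obtain ⟨k, f, hf⟩ := exists_kill pres Finset.univ (fun p : Σ i, Fin (n i) => secMap g (W p.1) (s p.1 p.2))
    fun p => (congrArg (fun φ => secMap φ (W p.1) (s p.1 p.2)) hg :)
  exact ⟨k, f, hom_ext_gens hG hPC hW hcov hs _ _ fun i l => hf ⟨i, l⟩ (Finset.mem_univ _)⟩

include hG hPC in
/-- A map from such a module into the colimit lifts to a stage. -/
theorem exists_stage_hom (φ : G ⟶ M) : ∃ (k : Λ) (g : G ⟶ pres.diag.obj k), g ≫ pres.ι.app k = φ := by
  classical
  obtain ⟨m, W, n, s, hW, hcov, hs⟩ := exists_data hG hPC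
  choose jy y hy using fun p : Σ i, Fin (n i) =>
    exists_sec_rep pres (NoetherianSpace.isCompact (W p.1 : Set T)) (secMap φ (W p.1) (s p.1 p.2))
  obtain ⟨j, hj⟩ := IsFiltered.sup_objs_exists (Finset.univ.image jy)
  let fj := fun p => (hj (Finset.mem_image_of_mem jy (Finset.mem_univ p))).some
  let y₁ : ∀ i, Fin (n i) → Sec (pres.diag.obj j) (W i) := fun i l =>
    secMap (pres.diag.map (fj ⟨i, l⟩)) (W i) (y ⟨i, l⟩)
  have hy₁ : ∀ i l, secMap (pres.ι.app j) (W i) (y₁ i l) = secMap φ (W i) (s i l) := fun i l =>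
    (w_sec pres (fj ⟨i, l⟩) _ _).trans (hy ⟨i, l⟩)
  -- relations
  have hrel : ∀ i, ∃ (e : ℕ) (r : Fin e → Fin (n i) → O.obj.obj (op (W i))),
      Submodule.span (O.obj.obj (op (W i))) (Set.range r) = relsOf (O.obj.obj (op (W i))) (s i) := fun i => by
    haveI := hG.noeth (W i) (hW i)
    exact Submodule.fg_iff_exists_fin_generating_family.1 (IsNoetherian.noetherian _)
  choose e r hr using hrel
  obtain ⟨j₂, f₂, hf₂⟩ := exists_kill pres Finset.univ
    (fun p : Σ i, Fin (e i) => ∑ l, r p.1 p.2 l • y₁ p.1 l) fun p => by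
      have h0 := mem_relsOf.1 ((hr p.1).le (Submodule.subset_span (Set.mem_range_self p.2)))
      refine (secMap_lincomb _ _ _ _).trans ((Finset.sum_congr rfl fun l _ => congrArg (_ • ·) (hy₁ p.1 l)).trans ?_)
      exact (secMap_lincomb φ _ _ _).symm.trans ((congrArg _ h0).trans (map_zero _))
  let y₂ : ∀ i, Fin (n i) → Sec (pres.diag.obj j₂) (W i) := fun i l => secMap (pres.diag.map f₂) (W i) (y₁ i l)
  have hy₂ : ∀ i l, secMap (pres.ι.app j₂) (W i) (y₂ i l) = secMap φ (W i) (s i l) := fun i l =>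
    (w_sec pres f₂ _ _).trans (hy₁ i l)
  -- overlaps
  have hA : ∀ p : Fin m × Fin m, ∃ (q : ℕ) (A : Fin q → Opens T) (hA : ∀ b, A b ≤ W p.1 ⊓ W p.2),
      (∀ b, P (A b)) ∧ ∀ x ∈ W p.1 ⊓ W p.2, ∃ b, x ∈ A b := fun p => by
    choose A hA hxA hAle using fun x : (W p.1 ⊓ W p.2 : Opens T) => hG.basis (W p.1 ⊓ W p.2) x.1 x.2
    obtain ⟨t, ht⟩ := (NoetherianSpace.isCompact ((W p.1 ⊓ W p.2 : Opens T) : Set T)).elim_finite_subcover
      (fun x => (A x : Set T)) (fun x => (A x).2) fun x hx => Set.mem_iUnion.2 ⟨⟨x, hx⟩, hxA ⟨x, hx⟩⟩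
    refine ⟨t.card, fun b => A (t.equivFin.symm b).1, fun b => hAle _, fun b => hA _, fun x hx => ?_⟩
    obtain ⟨z, hz, hxz⟩ := Set.mem_iUnion₂.1 (ht hx)
    exact ⟨t.equivFin ⟨z, hz⟩, by simpa using hxz⟩
  choose q A hAle hAP hAcov using hA
  have hc : ∀ (p : Fin m × Fin m) (b : Fin (q p)) (l : Fin (n p.1)), ∃ c : Fin (n p.2) → O.obj.obj (op (A p b)),
      ∑ l', c l' • mRes G ((hAle p b).trans inf_le_right) (s p.2 l') =
        mRes G ((hAle p b).trans inf_le_left) (s p.1 l) := fun p b l =>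
    (Submodule.mem_span_range_iff_exists_fun _).1
      ((hPC.span_range ((hAle p b).trans inf_le_right) (hW p.2) (hAP p b) _ (hs p.2)).ge Submodule.mem_top)
  choose c hc using hc
  obtain ⟨k, f, hf⟩ := exists_kill pres Finset.univ
    (fun z : Σ p : Fin m × Fin m, Fin (q p) × Fin (n p.1) =>
      mRes (pres.diag.obj j₂) ((hAle z.1 z.2.1).trans inf_le_left) (y₂ z.1.1 z.2.2) -
        ∑ l', c z.1 z.2.1 z.2.2 l' • mRes (pres.diag.obj j₂) ((hAle z.1 z.2.1).trans inf_le_right) (y₂ z.1.2 l'))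
    fun z => by
      refine ((secMap _ _).map_sub _ _).trans ?_
      have e1 : ∀ (i : Fin m) (l : Fin (n i)) (V : Opens T) (h : V ≤ W i),
          secMap (pres.ι.app j₂) V (mRes (pres.diag.obj j₂) h (y₂ i l)) = secMap φ V (mRes G h (s i l)) :=
        fun i l V h => by rw [secMap_mRes, secMap_mRes, hy₂]; rfl
      refine sub_eq_zero.2 ((e1 _ _ _ _).trans (Eq.trans ?_ (secMap_lincomb _ _ _ _).symm))
      refine Eq.trans (congrArg _ (hc z.1 z.2.1 z.2.2).symm) ((secMap_lincomb φ _ _ _).trans ?_)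
      exact Finset.sum_congr rfl fun l _ => congrArg (_ • ·) (e1 _ _ _ _).symm
  let N := pres.diag.obj k
  let y₃ : ∀ i, Fin (n i) → Sec N (W i) := fun i l => secMap (pres.diag.map f) (W i) (y₂ i l)
  have hover : ∀ (p : Fin m × Fin m) (b : Fin (q p)) (l : Fin (n p.1)),
      mRes N ((hAle p b).trans inf_le_left) (y₃ p.1 l) =
        ∑ l', c p b l l' • mRes N ((hAle p b).trans inf_le_right) (y₃ p.2 l') := fun p b l => by
    refine sub_eq_zero.1 (Eq.trans ?_ (hf ⟨p, b, l⟩ (Finset.mem_univ _)))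
    refine Eq.symm (((secMap _ _).map_sub _ _).trans (congrArg₂ (· - ·) (secMap_mRes _ _ _)
      ((secMap_lincomb _ _ _ _).trans (Finset.sum_congr rfl fun l' _ => congrArg (_ • ·) (secMap_mRes _ _ _)))))
  have hrel₃ : ∀ i (a : Fin (n i) → O.obj.obj (op (W i))), a ∈ relsOf (O.obj.obj (op (W i))) (s i) →
      ∑ l, a l • y₃ i l = 0 := fun i a ha => by
    rw [← hr] at ha
    have hle : Submodule.span (O.obj.obj (op (W i))) (Set.range (r i)) ≤ relsOf (O.obj.obj (op (W i))) (y₃ i) :=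
      Submodule.span_le.2 (Set.range_subset_iff.2 fun d => mem_relsOf.2 (by
        have h2 := congrArg (secMap (pres.diag.map f) (W i)) (hf₂ ⟨i, d⟩ (Finset.mem_univ _))
        exact (secMap_lincomb (pres.diag.map f) (W i) (r i d) (y₂ i)).symm.trans
          ((congrArg (secMap (pres.diag.map f) (W i)) ((secMap_lincomb (pres.diag.map f₂) (W i) (r i d) (y₁ i)).symm.trans
            (hf₂ ⟨i, d⟩ (Finset.mem_univ _)))).trans (map_zero _))))
    exact mem_relsOf.1 (hle ha)
  -- the linear maps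
  have hL : ∀ (i : Fin m) (V : Opens T) (hV : P V) (h : V ≤ W i),
      ∃ L : Sec G V →ₗ[O.obj.obj (op V)] Sec N V, ∀ l, L (mRes G h (s i l)) = mRes N h (y₃ i l) := fun i V hV h => by
    let π := Fintype.linearCombination (O.obj.obj (op V)) (fun l => mRes G h (s i l))
    let ψ := Fintype.linearCombination (O.obj.obj (op V)) (fun l => mRes N h (y₃ i l))
    have hsurj : Function.Surjective π := LinearMap.range_eq_top.1
      ((Fintype.range_linearCombination _ _).trans (hPC.span_range h (hW i) hV _ (hs i)))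
    have hle : LinearMap.ker π ≤ LinearMap.ker ψ := fun a ha => by
      have ha' := hPC.rels (W i) V h (hW i) hV (n i) (s i) a
        ((Fintype.linearCombination_apply _ _ _).symm.trans (LinearMap.mem_ker.1 ha))
      refine (Submodule.span_le (p := LinearMap.ker ψ)).2 ?_ ha'
      rintro _ ⟨z, hz, rfl⟩
      rw [SetLike.mem_coe, LinearMap.mem_ker, Fintype.linearCombination_apply]
      simp only [Function.comp_apply, ← mRes_smul, ← map_sum, hrel₃ i z hz, map_zero]
    refine ⟨(LinearMap.ker π).liftQ ψ hle ∘ₗ (π.quotKerEquivOfSurjective hsurj).symm.toLinearMap, fun l => ?_⟩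
    have h1 : π (Pi.single l 1) = mRes G h (s i l) := by simp [π, Fintype.linearCombination_apply_single]
    rw [← h1, LinearMap.comp_apply]
    rw [show (π.quotKerEquivOfSurjective hsurj).symm.toLinearMap (π (Pi.single l 1)) =
      Submodule.Quotient.mk (Pi.single l 1) from (LinearEquiv.symm_apply_eq _).2 rfl, Submodule.liftQ_apply]
    simp [ψ, Fintype.linearCombination_apply_single]
  choose L hL using hL
  have hnat : ∀ (i : Fin m) (V V' : Opens T) (hV : P V) (hV' : P V') (h : V ≤ W i) (j : V' ≤ V) (x : Sec G V),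
      mRes N j (L i V hV h x) = L i V' hV' (j.trans h) (mRes G j x) := fun i V V' hV hV' h j x => by
    refine Submodule.span_induction (p := fun z _ => mRes N j (L i V hV h z) = L i V' hV' (j.trans h) (mRes G j z))
      ?_ (by simp only [map_zero]) (fun a b _ _ ha hb => by simp only [map_add, ha, hb])
      (fun a b _ hb => by simp only [map_smul, mRes_smul, hb])
      ((hPC.span_range h (hW i) hV _ (hs i)).ge (Submodule.mem_top : x ∈ _))
    rintro _ ⟨l, rfl⟩
    rw [hL, mRes_mRes, mRes_mRes, hL]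
  have hind : ∀ (i i' : Fin m) (V : Opens T) (hV : P V) (h : V ≤ W i) (h' : V ≤ W i'),
      L i V hV h = L i' V hV h' := fun i i' V hV h h' => by
    refine LinearMap.ext_on_range (hPC.span_range h (hW i) hV _ (hs i)) fun l => ?_
    rw [hL]
    refine sec_ext_basis (P := fun V' => P V' ∧ (V' ≤ W i ⊓ W i' → ∃ b, V' ≤ A (i, i') b)) (fun U x hx => ?_) _ _
      fun V' jV ⟨hV', hex⟩ => ?_
    · by_cases hxW : x ∈ W i ⊓ W i'
      · obtain ⟨b, hb⟩ := hAcov (i, i') x hxW
        obtain ⟨V', hV', hxV', hle⟩ := hG.basis (U ⊓ A (i, i') b) x ⟨hx, hb⟩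
        exact ⟨V', ⟨hV', fun _ => ⟨b, hle.trans inf_le_right⟩⟩, hxV', hle.trans inf_le_left⟩
      · obtain ⟨V', hV', hxV', hle⟩ := hG.basis U x hx
        exact ⟨V', ⟨hV', fun hcon => absurd (hcon hxV') hxW⟩, hxV', hle⟩
    obtain ⟨b, hb⟩ := hex (jV.trans (le_inf h h'))
    rw [hnat i' V V' hV hV' h' jV]
    simp only [mRes_mRes]
    rw [show mRes G (jV.trans h) (s i l) = mRes G hb (mRes G ((hAle (i, i') b).trans inf_le_left) (s i l)) from
        (mRes_mRes _ _ _).symm, ← hc (i, i') b l,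
      show mRes N (jV.trans h) (y₃ i l) = mRes N hb (mRes N ((hAle (i, i') b).trans inf_le_left) (y₃ i l)) from
        (mRes_mRes _ _ _).symm, hover (i, i') b l]
    simp only [map_sum, mRes_smul, map_smul, mRes_mRes, hL]
  obtain ⟨g, hg⟩ := exists_hom_of_basis (P := fun V => P V ∧ ∃ i, V ≤ W i) (small_basis hG.basis hcov) (M := G) (N := N)
    (fun V hV => L hV.2.choose V hV.1 hV.2.choose_spec)
    fun V V' j hV hV' x => (hnat _ V V' hV.1 hV'.1 _ j x).trans (LinearMap.congr_fun (hind _ _ V' hV'.1 _ _) _)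
  refine ⟨k, g, hom_ext_gens hG hPC hW hcov hs _ _ fun i l => ?_⟩
  show secMap (pres.ι.app k) (W i) (secMap g (W i) (s i l)) = secMap φ (W i) (s i l)
  have hid : ∀ (X : ModSite.Mod O) (U : Opens T) (x : Sec X U), mRes X le_rfl x = x := fun X U x =>
    ConcreteCategory.congr_hom (X.val.presheaf.map_id (op U)) x
  have h1 : secMap g (W i) (s i l) = y₃ i l := by
    rw [hg (W i) ⟨hW i, i, le_rfl⟩, hind _ i (W i) (hW i) _ le_rfl]
    conv_lhs => rw [← hid G (W i) (s i l)]
    rw [hL, hid]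
  rw [h1]
  exact (w_sec pres f _ _).trans (hy₂ i l)

end Groth.Agent.QCT3.HomColim
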