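import Groth.Agent.FModLib.Push
import Groth.Agent.FModLib.HomBasis
import Mathlib.Topology.Sheaves.Functors

/-!
# Modules killed by a power of the ideal of definition live on a level
-/

set_option autoImplicit false
set_option backward.isDefEq.respectTransparency false
set_option linter.style.haveILetI false
set_option linter.unusedSectionVars false
set_option maxHeartbeats 1000000

universe u

open CategoryTheory CategoryTheory.Limits AlgebraicGeometry Opposite TopologicalSpace
open Groth.Agent.FBlowLib Groth.Agent.DerCompLib Groth.Agent.Coherent Groth.Agent.FModLib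

noncomputable section

namespace Groth.Agent.QCT3

variable {𝔛 : FSch.Sys.{u}} (h : 𝔛.IsFormal) (k : ℕ)

theorem lvU_le_of_le_preU {W : (𝔛.X k).Opens} {V : (𝔛.X 0).Opens} (i : V ≤ preU k W) : 𝔛.lvU h k V ≤ W :=
  (FBlow.lvU_mono 𝔛 h k i).trans (lvU_preU h k W).le

theorem preU_lvU (U : (𝔛.X 0).Opens) : preU k (𝔛.lvU h k U) = U := by
  change (Opens.map ((𝔛.toX k).base ≫ 𝔛.gInv h k)).obj U = U
  rw [FSch.Sys.toX_base_gInv]
  rfl

/-- The module is killed by `J^{k+1}` on affine opens. -/
def Killed (N : FSch.ModF 𝔛 h) : Prop :=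
  ∀ (V : (𝔛.X 0).Opens), IsAffineOpen V → ∀ b : FBlowLib.Sec 𝔛 h V, proj 𝔛 h k V b = 0 →
    ∀ m : DerCompLib.Sec N V, b • m = 0

variable {N : FSch.ModF 𝔛 h}

/-- `y` is the product of `a` and `m`. -/
def IsAct {W : (𝔛.X k).Opens} (a : Γ(𝔛.X k, W)) (m y : DerCompLib.Sec N (preU k W)) : Prop :=
  ∀ (V : (𝔛.X 0).Opens) (i : V ≤ preU k W), IsAffineOpen V → ∀ b : FBlowLib.Sec 𝔛 h V,
    proj 𝔛 h k V b = (𝔛.X k).presheaf.map (homOfLE (lvU_le_of_le_preU h k i)).op a → mRes N i y = b • mRes N i m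

variable (hX : 𝔛.IsLocNoethFormal) (hk : Killed h k N)

include hk in
theorem smul_eq_of_proj {V : (𝔛.X 0).Opens} (hV : IsAffineOpen V) {b b' : FBlowLib.Sec 𝔛 h V}
    (e : proj 𝔛 h k V b = proj 𝔛 h k V b') (m : DerCompLib.Sec N V) : b • m = b' • m := by
  rw [← sub_eq_zero, ← sub_smul]
  exact hk V hV _ (by rw [map_sub, e, sub_self]) m

include hX hk in
theorem existsUnique_act {W : (𝔛.X k).Opens} (a : Γ(𝔛.X k, W)) (m : DerCompLib.Sec N (preU k W)) :
    ∃! y, IsAct h k a m y := by
  choose b hb using fun (V : (𝔛.X 0).Opens) (i : V ≤ preU k W) (hV : IsAffineOpen V) =>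
    ((sec_props h hX hV).2 k).1 ((𝔛.X k).presheaf.map (homOfLE (lvU_le_of_le_preU h k i)).op a)
  obtain ⟨y, hy⟩ := exists_sec_of_basis (P := AFF 𝔛) basis_AFF (N := N) (U := preU k W)
    (fun V i hV => b V i hV • mRes N i m) fun V V' i hV j hV' => by
      rw [mRes_smul, mRes_mRes]
      refine smul_eq_of_proj h k hk hV' ?_ _
      rw [hb, show oRes (𝔛.Osh h) j (b V i hV) = res 𝔛 h j (b V i hV) from rfl, proj_res, hb,
        ← ConcreteCategory.comp_apply, ← Functor.map_comp]
      rfl
  refine ⟨y, fun V i hV c hc => (hy V i hV).trans (smul_eq_of_proj h k hk hV ((hb V i hV).trans hc.symm) _),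
    fun y' hy' => sec_ext_basis (P := AFF 𝔛) basis_AFF _ _ fun V i hV => ?_⟩
  rw [hy V i hV, hy' V i hV _ (hb V i hV)]

/-- The action of functions of the level. -/
def act {W : (𝔛.X k).Opens} (a : Γ(𝔛.X k, W)) (m : DerCompLib.Sec N (preU k W)) : DerCompLib.Sec N (preU k W) :=
  (existsUnique_act h k hX hk a m).exists.choose

theorem act_spec {W : (𝔛.X k).Opens} (a : Γ(𝔛.X k, W)) (m : DerCompLib.Sec N (preU k W)) :
    IsAct h k a m (act h k hX hk a m) :=
  (existsUnique_act h k hX hk a m).exists.choose_spec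

theorem act_eq {W : (𝔛.X k).Opens} {a : Γ(𝔛.X k, W)} {m y : DerCompLib.Sec N (preU k W)} (hy : IsAct h k a m y) :
    act h k hX hk a m = y :=
  (existsUnique_act h k hX hk a m).unique (act_spec h k hX hk a m) hy

/-- The module structure. -/
abbrev lvModule (W : (𝔛.X k).Opens) : Module Γ(𝔛.X k, W) (DerCompLib.Sec N (preU k W)) where
  smul := act h k hX hk
  one_smul m := act_eq h k hX hk fun V i hV b hb => by
    rw [smul_eq_of_proj h k hk hV (hb.trans ((map_one _).trans (map_one _).symm)) _, one_smul]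
  mul_smul a a' m := act_eq h k hX hk fun V i hV b hb => by
    obtain ⟨c, hc⟩ := ((sec_props h hX hV).2 k).1 ((𝔛.X k).presheaf.map (homOfLE (lvU_le_of_le_preU h k i)).op a)
    obtain ⟨c', hc'⟩ := ((sec_props h hX hV).2 k).1 ((𝔛.X k).presheaf.map (homOfLE (lvU_le_of_le_preU h k i)).op a')
    show mRes N i (act h k hX hk a (act h k hX hk a' m)) = _
    rw [act_spec h k hX hk a _ V i hV c hc, act_spec h k hX hk a' m V i hV c' hc', ← mul_smul]
    refine smul_eq_of_proj h k hk hV ?_ _
    rw [hb, map_mul, hc, hc', map_mul]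
  smul_zero a := act_eq h k hX hk fun V i hV b hb => by rw [map_zero, smul_zero]
  smul_add a m m' := act_eq h k hX hk fun V i hV b hb => by
    show mRes N i (act h k hX hk a m + act h k hX hk a m') = _
    rw [map_add, map_add, smul_add, act_spec h k hX hk a m V i hV b hb, act_spec h k hX hk a m' V i hV b hb]
  add_smul a a' m := act_eq h k hX hk fun V i hV b hb => by
    obtain ⟨c, hc⟩ := ((sec_props h hX hV).2 k).1 ((𝔛.X k).presheaf.map (homOfLE (lvU_le_of_le_preU h k i)).op a)
    obtain ⟨c', hc'⟩ := ((sec_props h hX hV).2 k).1 ((𝔛.X k).presheaf.map (homOfLE (lvU_le_of_le_preU h k i)).op a')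
    show mRes N i (act h k hX hk a m + act h k hX hk a' m) = _
    rw [map_add, act_spec h k hX hk a m V i hV c hc, act_spec h k hX hk a' m V i hV c' hc', ← add_smul]
    refine smul_eq_of_proj h k hk hV ?_ _
    rw [hb, map_add, hc, hc', map_add]
  zero_smul m := act_eq h k hX hk fun V i hV b hb => by
    rw [map_zero, smul_eq_of_proj h k hk hV (hb.trans ((map_zero _).trans (map_zero _).symm)) _, zero_smul]

/-- The abelian presheaf on the level. -/
abbrev lvPresheaf : (𝔛.X k).Opensᵒᵖ ⥤ AddCommGrpCat.{u} :=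
  (Opens.map (𝔛.toX k).base).op ⋙ N.val.presheaf

/-- The presheaf of modules on the level. -/
def lvPre : PresheafOfModules.{u} (𝔛.X k).ringCatSheaf.obj :=
  letI : ∀ W : (𝔛.X k).Opensᵒᵖ, Module ((𝔛.X k).ringCatSheaf.obj.obj W) ((lvPresheaf h k (N := N)).obj W) :=
    fun W => lvModule h k hX hk W.unop
  PresheafOfModules.ofPresheaf (lvPresheaf h k (N := N)) fun W W' f a m => by
    refine (act_eq h k hX hk (W := W'.unop) ?_).symm
    intro V i hV b hb
    show mRes N i (mRes N (fun x hx => leOfHom f.unop hx) (act h k hX hk a m)) =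
      b • mRes N i (mRes N (fun x hx => leOfHom f.unop hx) m)
    rw [mRes_mRes, mRes_mRes]
    refine act_spec h k hX hk a m V _ hV b (hb.trans ?_)
    exact ConcreteCategory.congr_hom (((𝔛.X k).presheaf.map_comp f
      (homOfLE (lvU_le_of_le_preU h k i)).op).symm) a

/-- The module on the level. -/
def lvMod : (𝔛.X k).Modules :=
  ⟨lvPre h k hX hk,
    ((TopCat.Sheaf.pushforward AddCommGrpCat.{u} (𝔛.toX k).base).obj
      ((SheafOfModules.toSheaf.{u} (ModSite.ringSh (𝔛.Osh h))).obj N)).2⟩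

/-- The comparison. -/
def toUp : N ⟶ up h k (lvMod h k hX hk) :=
  ⟨PresheafOfModules.homMk
    { app := fun U => AddCommGrpCat.ofHom
        ((mRes N (preU_lvU h k U.unop).le : DerCompLib.Sec N U.unop →+ DerCompLib.Sec N (preU k (𝔛.lvU h k U.unop))))
      naturality := fun U U' f => AddCommGrpCat.ext fun x => by
        show mRes N _ (mRes N (leOfHom f.unop) x) = mRes N (fun y hy => FBlow.lvU_mono 𝔛 h k (leOfHom f.unop) hy) (mRes N _ x)
        rw [mRes_mRes, mRes_mRes] }
    fun U r x => by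
      refine (act_eq h k hX hk (W := 𝔛.lvU h k U.unop) ?_).symm
      intro V i hV b hb
      show mRes N i (mRes N _ ((show FBlowLib.Sec 𝔛 h U.unop from r) • (show DerCompLib.Sec N U.unop from x))) =
        b • mRes N i (mRes N _ x)
      rw [mRes_mRes, mRes_mRes, mRes_smul]
      refine smul_eq_of_proj h k hk hV ?_ _
      rw [hb]
      exact proj_res 𝔛 h k (i.trans (preU_lvU h k U.unop).le) (show FBlowLib.Sec 𝔛 h U.unop from r)⟩

theorem mRes_le_refl {U : (𝔛.X 0).Opens} (i : U ≤ U) (x : DerCompLib.Sec N U) : mRes N i x = x :=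
  ConcreteCategory.congr_hom (N.val.presheaf.map_id (op U)) x

theorem isIso_toUp : IsIso (toUp h k hX hk) :=
  isIso_of_forall basis_AFF _ fun U _ => by
    refine ⟨fun x y e => ?_, fun z => ⟨mRes N (preU_lvU h k U).ge (show DerCompLib.Sec N _ from z), ?_⟩⟩
    · have := congrArg (mRes N (preU_lvU h k U).ge) (show mRes N (preU_lvU h k U).le x = mRes N _ y from e)
      rwa [mRes_mRes, mRes_mRes, mRes_le_refl, mRes_le_refl] at this
    · show mRes N (preU_lvU h k U).le _ = z
      rw [mRes_mRes, mRes_le_refl]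

include hX hk in
/-- Killed modules are direct images from the level. -/
theorem exists_iso_up : ∃ F : (𝔛.X k).Modules, Nonempty (N ≅ up h k F) :=
  haveI := isIso_toUp h k hX hk
  ⟨lvMod h k hX hk, ⟨asIso (toUp h k hX hk)⟩⟩

end Groth.Agent.QCT3
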