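import Groth.Agent.FModLib.QcohSub
import Groth.Agent.QCT3.Level

/-!
# The level module of a quasi-coherent module is quasi-coherent
-/

set_option autoImplicit false
set_option backward.isDefEq.respectTransparency false
set_option linter.style.haveILetI false
set_option linter.unusedSectionVars false
set_option maxHeartbeats 1000000

universe u

open CategoryTheory CategoryTheory.Limits AlgebraicGeometry Opposite TopologicalSpace
open Groth.Agent.FBlowLib Groth.Agent.DerCompLib Groth.Agent.Coherent Groth.Agent.FModLib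

noncomputable section

namespace Groth.Agent.QCT3

variable {𝔛 : FSch.Sys.{u}} {h : 𝔛.IsFormal} (hX : 𝔛.IsLocNoethFormal)

include hX in
/-- Sections over a smaller affine come from the larger one. -/
theorem span_of_ind {M : FSch.ModF 𝔛 h} (hM : indCoh h M) {U V : (𝔛.X 0).Opens} (i : V ≤ U) (hU : AFF 𝔛 U)
    (hV : AFF 𝔛 V) : Submodule.span (FBlowLib.Sec 𝔛 h V) (Set.range (mRes M i)) = ⊤ := by
  haveI := hX.2.2 0
  haveI : PrespectralSpace (𝔛.X 0).toTopCat := inferInstanceAs (PrespectralSpace (𝔛.X 0))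
  haveI : QuasiSeparatedSpace (𝔛.X 0).toTopCat := inferInstanceAs (QuasiSeparatedSpace (𝔛.X 0))
  obtain ⟨Λ, _, _, pres, hc⟩ := hM
  refine top_unique fun x _ => ?_
  obtain ⟨j, y, rfl⟩ := exists_sec_rep pres (IsAffineOpen.isCompact hV) x
  have hy : y ∈ Submodule.span (FBlowLib.Sec 𝔛 h V) (Set.range (mRes (pres.diag.obj j) i)) :=
    (isPC_of_isCohF h hX _ (hc j)).span U V i hU hV ▸ Submodule.mem_top
  have h2 := Submodule.mem_map_of_mem (f := secMap (pres.ι.app j) V) hy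
  rw [Submodule.map_span] at h2
  refine Submodule.span_mono ?_ h2
  rintro _ ⟨_, ⟨z, rfl⟩, rfl⟩
  exact ⟨secMap (pres.ι.app j) U z, (secMap_mRes _ i z).symm⟩

variable {W : (𝔛.X 0).Opens}

theorem sub_smul' (M : FSch.ModF 𝔛 h) (V : ((sub h W).X 0).Opens) (r : FBlowLib.Sec (sub h W) (hsub h W) V)
    (x : DerCompLib.Sec ((toSub h W).obj M) V) :
    r • x = (show DerCompLib.Sec ((toSub h W).obj M) V from
      (((ringIso h W).inv.hom.app (op V)).hom r : FBlowLib.Sec 𝔛 h ((opn h W).ι ''ᵁ V)) •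
        (show DerCompLib.Sec M ((opn h W).ι ''ᵁ V) from x)) := rfl

variable (hW : IsAffineOpen W) {M : FSch.ModF 𝔛 h} (hi : indCoh (hsub h W) ((toSub h W).obj M))

include hX hW hi

/-- Sections over affines inside come from the big open. -/
theorem mem_span_sub {V : ((sub h W).X 0).Opens} (hV : IsAffineOpen V)
    (x : DerCompLib.Sec M ((opn h W).ι ''ᵁ V)) :
    x ∈ Submodule.span (FBlowLib.Sec 𝔛 h ((opn h W).ι ''ᵁ V))
      (Set.range (mRes M ((opn h W).ι.image_mono (le_top : V ≤ ⊤)))) := by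
  have hx : (show DerCompLib.Sec ((toSub h W).obj M) V from x) ∈ Submodule.span (FBlowLib.Sec (sub h W) (hsub h W) V)
      (Set.range (mRes ((toSub h W).obj M) (le_top : V ≤ ⊤))) :=
    span_of_ind (locNoeth_sub h hX W) hi le_top (top_affine_sub hW) hV ▸ Submodule.mem_top
  refine Submodule.span_induction (p := fun (y : DerCompLib.Sec ((toSub h W).obj M) V) _ =>
    (show DerCompLib.Sec M ((opn h W).ι ''ᵁ V) from y) ∈ Submodule.span (FBlowLib.Sec 𝔛 h ((opn h W).ι ''ᵁ V))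
      (Set.range (mRes M ((opn h W).ι.image_mono (le_top : V ≤ ⊤))))) ?_ (zero_mem _)
    (fun _ _ _ _ ha hb => add_mem ha hb) (fun r y _ hy => ?_) hx
  · rintro _ ⟨z, rfl⟩
    exact Submodule.subset_span ⟨z, rfl⟩
  · rw [sub_smul']
    exact Submodule.smul_mem _ _ hy

/-- A section vanishing on an affine inside has annihilators generating the unit ideal. -/
theorem one_mem_ann {V : ((sub h W).X 0).Opens} (hV : IsAffineOpen V)
    (t : DerCompLib.Sec M ((opn h W).ι ''ᵁ ⊤)) (ht : mRes M ((opn h W).ι.image_mono (le_top : V ≤ ⊤)) t = 0) :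
    (1 : FBlowLib.Sec 𝔛 h ((opn h W).ι ''ᵁ V)) ∈ Ideal.span
      ((fun y => res 𝔛 h ((opn h W).ι.image_mono (le_top : V ≤ ⊤)) y) ''
        {y : FBlowLib.Sec 𝔛 h ((opn h W).ι ''ᵁ ⊤) | y • t = 0}) := by
  let t' : DerCompLib.Sec ((toSub h W).obj M) ⊤ := t
  have h1 : ∑ j : Fin 1, (1 : FBlowLib.Sec (sub h W) (hsub h W) V) •
      mRes ((toSub h W).obj M) (le_top : V ≤ ⊤) t' = 0 := by
    rw [Fin.sum_univ_one, one_smul]
    exact ht
  have h2 := hasRels_of_ind (hsub h W) (locNoeth_sub h hX W) hi ⊤ V le_top (top_affine_sub hW) hV 1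
    (fun _ => t') (fun _ => 1) h1
  let φ : FBlowLib.Sec (sub h W) (hsub h W) V →+* FBlowLib.Sec 𝔛 h ((opn h W).ι ''ᵁ V) :=
    ((ringIso h W).inv.hom.app (op V)).hom
  rw [← map_one φ]
  refine Submodule.span_induction
    (p := fun (a : Fin 1 → FBlowLib.Sec (sub h W) (hsub h W) V) _ => φ (a 0) ∈ Ideal.span
      ((fun y => res 𝔛 h ((opn h W).ι.image_mono (le_top : V ≤ ⊤)) y) ''
        {y : FBlowLib.Sec 𝔛 h ((opn h W).ι ''ᵁ ⊤) | y • t = 0}))
    ?_ (by rw [Pi.zero_apply, map_zero]; exact zero_mem _)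
    (fun _ _ _ _ ha hb => by rw [Pi.add_apply, map_add]; exact add_mem ha hb)
    (fun r a _ ha => by rw [Pi.smul_apply, smul_eq_mul, map_mul]; exact Ideal.mul_mem_left _ _ ha) h2
  rintro _ ⟨y, hy, rfl⟩
  refine Ideal.subset_span ⟨((ringIso h W).inv.hom.app (op (⊤ : ((sub h W).X 0).Opens))).hom (y 0), ?_, ?_⟩
  · rw [SetLike.mem_coe, mem_relsOf, Fin.sum_univ_one, sub_smul'] at hy
    exact hy
  · exact (ConcreteCategory.congr_hom ((ringIso h W).inv.hom.naturality (homOfLE (le_top : V ≤ ⊤)).op) (y 0)).symm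

omit hi in
theorem isAffineOpen_image_top : IsAffineOpen ((opn h W).ι ''ᵁ ⊤) := by
  rw [Scheme.Hom.image_top_eq_opensRange, Scheme.Opens.opensRange_ι]
  rw [opn, lvU_zero_eq]
  exact hW

end Groth.Agent.QCT3

namespace Groth.Agent.QCT3

variable {𝔛 : FSch.Sys.{u}} {h : 𝔛.IsFormal} (hX : 𝔛.IsLocNoethFormal) {W : (𝔛.X 0).Opens} {k : ℕ}
  {F : (𝔛.X k).Modules}

include hX in
theorem localizesOn_of_indCoh (hW : IsAffineOpen W) (hi : indCoh (hsub h W) ((toSub h W).obj (up h k F))) :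
    LocalizesOn F (𝔛.lvU h k ((opn h W).ι ''ᵁ ⊤)) := by
  set U₀ := (opn h W).ι ''ᵁ ⊤ with hU₀
  have hU : IsAffineOpen (𝔛.lvU h k U₀) := S13347.isAffineOpen_lvU 𝔛 h k U₀ (isAffineOpen_image_top hX hW)
  haveI := FSch.Sys.toX_isClosedImmersion 𝔛 h k
  have hD : ∀ f : Γ(𝔛.X k, 𝔛.lvU h k U₀), ∃ V : ((sub h W).X 0).Opens, IsAffineOpen V ∧
      (opn h W).ι ''ᵁ V = preU k ((𝔛.X k).basicOpen f) := fun f => by
    have hle : preU k ((𝔛.X k).basicOpen f) ≤ (opn h W).ι.opensRange := by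
      refine (Scheme.Hom.preimage_mono _ ((𝔛.X k).basicOpen_le f)).trans ?_
      exact (preU_lvU h k U₀).le.trans (Scheme.Hom.image_le_opensRange _ _)
    exact ⟨(opn h W).ι ⁻¹ᵁ preU k ((𝔛.X k).basicOpen f),
      ((hU.basicOpen f).preimage (𝔛.toX k)).preimage_of_isOpenImmersion _ hle,
      by rw [Scheme.Hom.image_preimage_eq_opensRange_inf, inf_eq_right.2 hle]⟩
  refine ⟨fun f s => ?_, fun f t ht => ?_⟩
  · obtain ⟨V, hV, hVD⟩ := hD f
    have e : 𝔛.lvU h k ((opn h W).ι ''ᵁ V) = (𝔛.X k).basicOpen f := (congrArg (𝔛.lvU h k) hVD).trans (lvU_preU h k _)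
    haveI := hU.isLocalization_basicOpen f
    let T := Submodule.span Γ(𝔛.X k, (𝔛.X k).basicOpen f) (Set.range (resM F ((𝔛.X k).basicOpen_le f)))
    have hs : s ∈ T := by
      have h1 := mem_span_sub hX hW hi hV (M := up h k F) ((upVal h).symm (resM F e.le s))
      have h2 : resM F e.ge (upVal h ((upVal h (U := (opn h W).ι ''ᵁ V)).symm (resM F e.le s))) ∈ T := by
        refine Submodule.span_induction (p := fun y _ => resM F e.ge (upVal h y) ∈ T) ?_
          (by rw [map_zero, map_zero]; exact zero_mem _)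
          (fun a b _ _ ha hb => by rw [map_add, map_add]; exact add_mem ha hb)
          (fun r y _ hy => by rw [upVal_smul, resM_smul]; exact Submodule.smul_mem _ _ hy) h1
        rintro _ ⟨z, rfl⟩
        refine Submodule.subset_span ⟨upVal h z, ?_⟩
        rw [upVal_mRes, resM_resM]
      rwa [AddEquiv.apply_symm_apply, resM_resM, FModLib.resM_id] at h2
    refine Submodule.span_induction (p := fun s _ => ∃ (n : ℕ) (t : Γ(F, 𝔛.lvU h k U₀)),
      resM F ((𝔛.X k).basicOpen_le f) t =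
        (𝔛.X k).presheaf.map (homOfLE ((𝔛.X k).basicOpen_le f)).op (f ^ n) • s) ?_ ?_ ?_ ?_ hs
    · rintro _ ⟨t, rfl⟩
      exact ⟨0, t, by rw [pow_zero, map_one, one_smul]⟩
    · exact ⟨0, 0, by rw [map_zero, smul_zero]⟩
    · rintro a b - - ⟨n, t, ht⟩ ⟨m, u, hu⟩
      refine ⟨n + m, f ^ m • t + f ^ n • u, ?_⟩
      rw [map_add, resM_smul, resM_smul, ht, hu, ← mul_smul, ← mul_smul, pow_add, map_mul, smul_add, mul_comm]
    · rintro c a - ⟨n, t, ht⟩
      obtain ⟨⟨d, ⟨_, m, rfl⟩⟩, hd⟩ := IsLocalization.surj (Submonoid.powers f) c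
      refine ⟨n + m, d • t, ?_⟩
      rw [resM_smul, ht, ← mul_smul, ← mul_smul, pow_add, map_mul]
      refine congrArg (· • a) ?_
      refine (congrArg (· * _) (show (𝔛.X k).presheaf.map (homOfLE ((𝔛.X k).basicOpen_le f)).op d = c *
        (𝔛.X k).presheaf.map (homOfLE ((𝔛.X k).basicOpen_le f)).op (f ^ m) from hd.symm)).trans ?_
      ring
  · obtain ⟨V, hV, hVD⟩ := hD f
    have e : 𝔛.lvU h k ((opn h W).ι ''ᵁ V) = (𝔛.X k).basicOpen f := (congrArg (𝔛.lvU h k) hVD).trans (lvU_preU h k _)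
    haveI := hU.isLocalization_basicOpen f
    have h1 := one_mem_ann hX hW hi hV (M := up h k F) ((upVal h).symm t) ((upVal h).injective (by
      rw [upVal_mRes, AddEquiv.apply_symm_apply, map_zero]
      refine ((resM_resM F ((𝔛.X k).basicOpen_le f) e.le t).symm.trans ?_)
      rw [ht, map_zero]))
    let 𝔞 : Ideal Γ(𝔛.X k, 𝔛.lvU h k U₀) :=
      { carrier := {a | a • t = 0}
        add_mem' := fun {a b} (ha : a • t = 0) (hb : b • t = 0) => show (a + b) • t = 0 by rw [add_smul, ha, hb, add_zero]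
        zero_mem' := zero_smul _ t
        smul_mem' := fun c a (ha : a • t = 0) => show (c * a) • t = 0 by rw [mul_smul, ha, smul_zero] }
    let ψ : FBlowLib.Sec 𝔛 h ((opn h W).ι ''ᵁ V) →+* Γ(𝔛.X k, (𝔛.X k).basicOpen f) :=
      ((𝔛.X k).presheaf.map (homOfLE e.ge).op).hom.comp (proj 𝔛 h k ((opn h W).ι ''ᵁ V))
    have h2 : (1 : Γ(𝔛.X k, (𝔛.X k).basicOpen f)) ∈
        𝔞.map (algebraMap Γ(𝔛.X k, 𝔛.lvU h k U₀) Γ(𝔛.X k, (𝔛.X k).basicOpen f)) := by
      have h3 := Ideal.mem_map_of_mem ψ h1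
      rw [map_one, Ideal.map_span] at h3
      refine (Ideal.span_le.2 ?_ : _ ≤ _) h3
      rintro _ ⟨_, ⟨y, hy, rfl⟩, rfl⟩
      have hy' : proj 𝔛 h k U₀ y ∈ 𝔞 := by
        have := congrArg (upVal h) hy
        rwa [upVal_smul, AddEquiv.apply_symm_apply, map_zero] at this
      refine Eq.subst (motive := fun z => z ∈ 𝔞.map _) (Eq.symm ?_) (Ideal.mem_map_of_mem _ hy')
      show (𝔛.X k).presheaf.map (homOfLE e.ge).op (proj 𝔛 h k _ (res 𝔛 h _ y)) =
        (𝔛.X k).presheaf.map (homOfLE ((𝔛.X k).basicOpen_le f)).op (proj 𝔛 h k U₀ y)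
      rw [proj_res]
      refine (ConcreteCategory.comp_apply _ _ _).symm.trans ?_
      rw [← Functor.map_comp]
      rfl
    rw [← map_one (algebraMap Γ(𝔛.X k, 𝔛.lvU h k U₀) Γ(𝔛.X k, (𝔛.X k).basicOpen f)),
      IsLocalization.algebraMap_mem_map_algebraMap_iff (Submonoid.powers f)] at h2
    obtain ⟨_, ⟨n, rfl⟩, hn⟩ := h2
    exact ⟨n, by rw [mul_one] at hn; exact hn⟩

include hX in
/-- The level module of a quasi-coherent module is quasi-coherent. -/
theorem isQCoh_of_up (hq : SheafOfModules.IsQuasicoherent.{u} (up h k F)) : Coh.IsQCoh F := by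
  choose W hW hxW _ hi using fun x => exists_indCoh_toSub hX hq x (V := ⊤) trivial
  refine isQCoh_of_localizesOn F (fun x => 𝔛.lvU h k ((opn h (W x)).ι ''ᵁ ⊤))
    (fun x => S13347.isAffineOpen_lvU 𝔛 h k _ (isAffineOpen_image_top hX (hW x))) (fun y => ?_)
    fun x => localizesOn_of_indCoh hX (hW x) (hi x (W x) le_rfl)
  refine ⟨(𝔛.gInv h k) y, ?_⟩
  show (𝔛.gInv h k) y ∈ (opn h (W _)).ι ''ᵁ ⊤
  rw [Scheme.Hom.image_top_eq_opensRange, Scheme.Opens.opensRange_ι]
  rw [opn, lvU_zero_eq]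
  exact hxW _

end Groth.Agent.QCT3
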